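import Cfsg.Agent.Lib.Components.Bender
import Cfsg.Agent.Lib.Solvable.Basic
import Mathlib.GroupTheory.GroupAction.Primitive
import Mathlib.Data.Nat.Factorial.Basic

/-!
The theorem of Thompson and Wielandt: for two conjugate point stabilisers `X = G_a`, `Y = G_b` of a
primitive group, the largest subgroup of `core_Y(X ∩ Y)` normal in `X` is a `p`-group, unless the
corresponding subgroup with `X` and `Y` exchanged is trivial.
-/

set_option autoImplicit false
set_option linter.style.haveILetI false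
set_option linter.unusedSectionVars false

namespace CfsgLib.ThompsonWielandt

open Subgroup CfsgLib.Solvable CfsgLib.Components CfsgLib.Components.Bender

variable {G : Type*} [Group G]

/-- The elements of `X` all of whose `X`-conjugates lie in `S`. -/
def co (X S : Subgroup G) : Subgroup G :=
  X ⊓ ⨅ x : X, S.comap (MulAut.conj (x : G)).toMonoidHom

theorem mem_co {X S : Subgroup G} {g : G} :
    g ∈ co X S ↔ g ∈ X ∧ ∀ x ∈ X, x * g * x⁻¹ ∈ S := by
  simp only [co, mem_inf, mem_iInf, mem_comap, MulEquiv.coe_toMonoidHom, MulAut.conj_apply,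
    Subtype.forall]

theorem co_le_left (X S : Subgroup G) : co X S ≤ X := inf_le_left

theorem co_le_right (X S : Subgroup G) : co X S ≤ S := fun g hg => by
  simpa using (mem_co.mp hg).2 1 (one_mem X)

theorem co_mono {X S T : Subgroup G} (h : S ≤ T) : co X S ≤ co X T := fun _ hg =>
  mem_co.mpr ⟨(mem_co.mp hg).1, fun x hx => h ((mem_co.mp hg).2 x hx)⟩

theorem mem_normalizer_of_forall [Finite G] {H : Subgroup G} {g : G}
    (h : ∀ x ∈ H, g * x * g⁻¹ ∈ H) : g ∈ normalizer (H : Set G) :=
  Subgroup.mem_normalizer_iff_map_conj_eq.mpr (Subgroup.eq_of_le_of_card_ge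
    (by rintro _ ⟨x, hx, rfl⟩; exact h x hx)
    (by rw [Subgroup.card_map_of_injective (MulAut.conj g).injective]))

theorem le_normalizer_co [Finite G] (X S : Subgroup G) : X ≤ normalizer (co X S : Set G) :=
  fun g hg => mem_normalizer_of_forall fun x hx => by
    obtain ⟨h1, h2⟩ := mem_co.mp hx
    refine mem_co.mpr ⟨mul_mem (mul_mem hg h1) (inv_mem hg), fun y hy => ?_⟩
    have := h2 (y * g) (mul_mem hy hg)
    simpa [mul_assoc] using this

/-- `S` is subnormal in `M` when `S ⊴ T ⊴ M`. -/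
theorem sn_of_step {S T M : Subgroup G} (hST : S ≤ T) (hTM : T ≤ M)
    (hT : M ≤ normalizer (T : Set G)) (hS : T ≤ normalizer (S : Set G)) :
    (S.subgroupOf M).IsSubnormal := by
  haveI hn : (T.subgroupOf M).Normal := (normal_subgroupOf_iff_le_normalizer hTM).mpr hT
  have hle : S.subgroupOf M ≤ T.subgroupOf M := fun x hx => hST hx
  refine Subgroup.IsSubnormal.step _ _ hle (Normal.isSubnormal hn) ?_
  refine (normal_subgroupOf_iff_le_normalizer hle).mpr fun x hx => mem_normalizer_iff.mpr fun y => ?_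
  exact mem_normalizer_iff.mp (hS hx) (y : G)

/-- A subnormal subgroup contains the elements of order prime to its index. -/
theorem mem_of_coprime_index {S : Subgroup G} (hS : S.IsSubnormal) :
    ∀ x : G, (orderOf x).Coprime S.index → x ∈ S := by
  induction hS with
  | top => intro x _; exact mem_top x
  | step H K hle _ hn ih =>
    intro x hx
    rw [← Subgroup.relIndex_mul_index hle] at hx
    have hxK : x ∈ K := ih x (Nat.Coprime.coprime_dvd_right (Dvd.intro_left _ rfl) hx)
    have hc : (orderOf x).Coprime (H.relIndex K) :=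
      Nat.Coprime.coprime_dvd_right (Dvd.intro _ rfl) hx
    have hp : ((⟨x, hxK⟩ : K) ^ H.relIndex K) ∈ H.subgroupOf K :=
      @Subgroup.pow_index_mem _ _ (H.subgroupOf K) hn _
    have hp' : x ^ H.relIndex K ∈ H := by simpa [mem_subgroupOf] using hp
    exact (zpowers_le.mpr hp') (mem_zpowers_pow_iff.mpr hc.symm)

/-- The subgroup generated by the elements of order prime to `r`. -/
def res (r : ℕ) (S : Subgroup G) : Subgroup G :=
  closure {x | x ∈ S ∧ (orderOf x).Coprime r}

theorem res_le (r : ℕ) (S : Subgroup G) : res r S ≤ S := (closure_le _).mpr fun _ hx => hx.1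

variable [Finite G]

theorem le_normalizer_res_of_le_normalizer (r : ℕ) {S T : Subgroup G}
    (h : T ≤ normalizer (S : Set G)) : T ≤ normalizer (res r S : Set G) := by
  intro g hg
  refine mem_normalizer_of_forall fun x hx => ?_
  suffices res r S ≤ (res r S).comap (MulAut.conj g).toMonoidHom from this hx
  refine (closure_le _).mpr fun y hy => subset_closure ⟨(mem_normalizer_iff.mp (h hg) y).mp hy.1, ?_⟩
  rw [orderOf_injective (MulAut.conj g).toMonoidHom (MulAut.conj g).injective]
  exact hy.2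

theorem res_ne_bot {r : ℕ} (hr : r.Prime) {S : Subgroup G} (h : ¬ IsPGroup r S) : res r S ≠ ⊥ := by
  intro hb
  refine h (IsPGroup.of_card (Nat.eq_prime_pow_of_unique_prime_dvd Nat.card_pos.ne' fun {s} hs hd => ?_))
  by_contra hne
  haveI := Fact.mk hs
  obtain ⟨x, hx⟩ := exists_prime_orderOf_dvd_card' (G := ↥S) s hd
  have hm : (x : G) ∈ res r S :=
    subset_closure ⟨x.2, by rw [Subgroup.orderOf_coe, hx]; exact (Nat.coprime_primes hs hr).mpr hne⟩
  rw [hb, mem_bot] at hm
  rw [show x = 1 from Subtype.ext hm, orderOf_one] at hx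
  exact hs.ne_one hx.symm

/-- A normal `r`-subgroup of `M` normalises the residual of every subnormal subgroup of `M`. -/
theorem le_normalizer_res {r : ℕ} [hr : Fact r.Prime] {M Q S : Subgroup G} (hQ : IsPGroup r Q) (hQM : Q ≤ M)
    (hMQ : M ≤ normalizer (Q : Set G)) (hSM : S ≤ M) (hsn : (S.subgroupOf M).IsSubnormal) :
    Q ≤ normalizer (res r S : Set G) := by
  intro q hq
  refine mem_normalizer_of_forall fun x hx => ?_
  suffices res r S ≤ (res r S).comap (MulAut.conj q).toMonoidHom from this hx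
  refine (closure_le _).mpr fun y hy => ?_
  have ho : (orderOf (q * y * q⁻¹)).Coprime r := by
    have := orderOf_injective (MulAut.conj q).toMonoidHom (MulAut.conj q).injective y
    rw [show q * y * q⁻¹ = (MulAut.conj q).toMonoidHom y from rfl, this]
    exact hy.2
  refine subset_closure ⟨?_, ho⟩
  haveI : (Q.subgroupOf M).Normal := (normal_subgroupOf_iff_le_normalizer hQM).mpr hMQ
  set S' := S.subgroupOf M with hS'
  set Q' := Q.subgroupOf M with hQ'
  set H := S' ⊔ Q' with hH
  have hy' : (⟨y, hSM hy.1⟩ : M) ∈ H := mem_sup_left (show y ∈ S from hy.1)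
  have hq' : (⟨q, hQM hq⟩ : M) ∈ H := mem_sup_right (show q ∈ Q from hq)
  set z : H := ⟨⟨q, hQM hq⟩, hq'⟩ * ⟨⟨y, hSM hy.1⟩, hy'⟩ * ⟨⟨q, hQM hq⟩, hq'⟩⁻¹
  have hzo : (orderOf z).Coprime r := by
    rw [← Subgroup.orderOf_coe, ← Subgroup.orderOf_coe]
    exact ho
  have hmem : z ∈ S'.subgroupOf H := by
    refine mem_of_coprime_index (hsn.subgroupOf) z ?_
    have hd : (S'.subgroupOf H).index ∣ Nat.card Q' := by
      have h1 := CfsgLib.Solvable.Basic.card_sup_mul Q' S'
      have h2 := Subgroup.card_mul_index (S'.subgroupOf H)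
      rw [Nat.card_congr (subgroupOfEquivOfLe (le_sup_left : S' ≤ H)).toEquiv] at h2
      rw [← hH, ← h2, mul_assoc] at h1
      exact Dvd.intro _ (Nat.eq_of_mul_eq_mul_left Nat.card_pos h1)
    obtain ⟨n, hn⟩ := IsPGroup.iff_card.mp
      (hQ.comap_of_injective M.subtype M.subtype_injective : IsPGroup r Q')
    exact Nat.Coprime.coprime_dvd_right (hn ▸ hd) (hzo.pow_right n)
  exact hmem

/-- The layer of `M` normalises every subnormal subgroup of `M`. -/
theorem layerIn_le_normalizer {M S : Subgroup G} (hSM : S ≤ M) (hsn : (S.subgroupOf M).IsSubnormal) :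
    layerIn M ≤ normalizer (S : Set G) := by
  rw [layerIn, map_le_iff_le_comap, layer_le_iff]
  intro L hL x hx
  rcases IsComponent.le_or_commutator_eq_bot hL hsn with h | h
  · exact Subgroup.le_normalizer (show (x : G) ∈ S from h hx)
  · refine centralizer_le_normalizer _ (mem_centralizer_iff.mpr fun s hs => ?_)
    exact congrArg Subtype.val
      (mem_centralizer_iff.mp (commutator_eq_bot_iff_le_centralizer.mp h hx) ⟨s, hSM hs⟩ hs)

theorem le_coreIn {r : ℕ} {M N : Subgroup G} (hN : IsPGroup r N) (hNM : N ≤ M)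
    (h : M ≤ normalizer (N : Set G)) : N ≤ coreIn r M := by
  haveI : (N.subgroupOf M).Normal := (normal_subgroupOf_iff_le_normalizer hNM).mpr h
  intro x hx
  exact ⟨⟨x, hNM hx⟩, Cores.le_pCore (N := N.subgroupOf M) (hN.comap_of_injective M.subtype M.subtype_injective) hx, rfl⟩

theorem coreIn_le_coreIn_of_normal {r : ℕ} {M B : Subgroup G} (hBM : B ≤ M)
    (hB : M ≤ normalizer (B : Set G)) : coreIn r B ≤ coreIn r M := by
  refine le_coreIn (isPGroup_coreIn r B) ((coreIn_le r B).trans hBM) fun g hg => ?_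
  exact map_subtype_normal_of_characteristic (hB hg)

theorem card_pCore_congr {A B : Type*} [Group A] [Group B] [Finite A] [Finite B] (r : ℕ) [Fact r.Prime]
    (e : A ≃* B) : Nat.card (Cfsg.pCore r A) = Nat.card (Cfsg.pCore r B) := by
  haveI : (Cfsg.pCore r A).Normal := by
    haveI := Cores.pCore_characteristic (G := A) r; infer_instance
  haveI : (Cfsg.pCore r B).Normal := by
    haveI := Cores.pCore_characteristic (G := B) r; infer_instance
  have h1 : (Cfsg.pCore r A).map e.toMonoidHom ≤ Cfsg.pCore r B :=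
    @Cores.le_pCore _ _ _ _ (Subgroup.Normal.map inferInstance _ e.surjective) ((Cores.isPGroup_pCore r).map _)
  have h2 : (Cfsg.pCore r B).map e.symm.toMonoidHom ≤ Cfsg.pCore r A :=
    @Cores.le_pCore _ _ _ _ (Subgroup.Normal.map inferInstance _ e.symm.surjective) ((Cores.isPGroup_pCore r).map _)
  refine le_antisymm ?_ ?_
  · rw [← Subgroup.card_map_of_injective (f := e.toMonoidHom) e.injective]
    exact Subgroup.card_le_of_le h1
  · rw [← Subgroup.card_map_of_injective (f := e.symm.toMonoidHom) e.symm.injective]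
    exact Subgroup.card_le_of_le h2

/-- If the elements of the `r`-group `T` normalising `S` all lie in `S`, then `T ≤ S`. -/
theorem le_of_normalizer_inf {r : ℕ} [Fact r.Prime] {S T : Subgroup G} (hS : IsPGroup r S)
    (hT : IsPGroup r T) (hn : S ≤ normalizer (T : Set G))
    (h : ∀ t ∈ T, t ∈ normalizer (S : Set G) → t ∈ S) : T ≤ S := by
  by_contra hle
  set R := S ⊔ T
  have hR : IsPGroup r R := hS.to_sup_of_normal_right' hT hn
  haveI : Group.IsNilpotent R := hR.isNilpotent
  have hlt : S.subgroupOf R < ⊤ := lt_top_iff_ne_top.mpr fun he =>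
    hle (le_sup_right.trans (subgroupOf_eq_top.mp he))
  obtain ⟨x, hxN, hxS⟩ := SetLike.exists_of_lt (Group.normalizerCondition_of_isNilpotent _ hlt)
  obtain ⟨s, hs, t, ht, hst⟩ := exists_mul_of_mem_sup hn x.2
  have hxn : (x : G) ∈ normalizer (S : Set G) := mem_normalizer_of_forall fun y hy =>
    (mem_normalizer_iff.mp hxN ⟨y, mem_sup_left hy⟩).mp hy
  have htn : t ∈ normalizer (S : Set G) := by
    rw [show t = s⁻¹ * (x : G) by rw [← hst]; group]
    exact mul_mem (inv_mem (Subgroup.le_normalizer hs)) hxn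
  exact hxS (show (x : G) ∈ S from hst ▸ mul_mem hs (h t ht htn))

/-- The data: two conjugate maximal point stabilisers. -/
structure Pair (X Y : Subgroup G) : Prop where
  uX : IsUniq X
  uY : IsUniq Y
  ne : X ≠ Y
  iso : Nonempty (X ≃* Y)

variable {X Y : Subgroup G}

theorem Pair.symm (h : Pair X Y) : Pair Y X := ⟨h.uY, h.uX, h.ne.symm, h.iso.map MulEquiv.symm⟩

theorem Pair.card_coreIn (h : Pair X Y) (r : ℕ) [Fact r.Prime] : Nat.card (coreIn r X) = Nat.card (coreIn r Y) := by
  obtain ⟨e⟩ := h.iso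
  rw [coreIn, coreIn, card_map_of_injective X.subtype_injective,
    card_map_of_injective Y.subtype_injective, card_pCore_congr r e]

theorem Pair.card_layerIn (h : Pair X Y) : Nat.card (layerIn X) = Nat.card (layerIn Y) := by
  obtain ⟨e⟩ := h.iso
  rw [layerIn, layerIn, card_map_of_injective X.subtype_injective,
    card_map_of_injective Y.subtype_injective, ← layer_map_mulEquiv e]
  exact (Subgroup.card_map_of_injective (f := e.toMonoidHom) e.injective).symm

/-- A nontrivial subgroup is not normal in both. -/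
theorem Pair.eq_bot_of_normalized (h : Pair X Y) {U : Subgroup G} (hU : U ≤ X)
    (hX : X ≤ normalizer (U : Set G)) (hY : Y ≤ normalizer (U : Set G)) : U = ⊥ := by
  by_contra hne
  obtain ⟨e⟩ := h.iso
  exact h.ne (Subgroup.eq_of_le_of_card_ge (hY.trans (h.uX U hne hU hX))
    (Nat.card_congr e.toEquiv).le).symm

theorem Pair.coreIn_eq_bot_of_le (h : Pair X Y) {r : ℕ} [Fact r.Prime] (hle : coreIn r X ≤ coreIn r Y) :
    coreIn r X = ⊥ :=
  h.eq_bot_of_normalized (coreIn_le r X) (le_normalizer_coreIn r X)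
    (Subgroup.eq_of_le_of_card_ge hle (h.card_coreIn r).ge ▸ le_normalizer_coreIn r Y)

theorem P_ne_le {P : Subgroup G} (h : P ≠ ⊥) {Q : Subgroup G} (hle : P ≤ Q) : Q ≠ ⊥ :=
  fun e => h (le_bot_iff.mp (e ▸ hle))

theorem sn_in_Y (X Y : Subgroup G) : ((co X (co Y X)).subgroupOf Y).IsSubnormal :=
  sn_of_step (co_le_right _ _) (co_le_left _ _) (le_normalizer_co Y X)
    (fun _ hx => le_normalizer_co X _ (co_le_right Y X hx))

theorem Pair.layerIn_le_left (h : Pair X Y) (hP : co X (co Y X) ≠ ⊥) : layerIn Y ≤ X :=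
  (layerIn_le_normalizer ((co_le_right _ _).trans (co_le_left _ _)) (sn_in_Y X Y)).trans
    (h.uX _ hP (co_le_left _ _) (le_normalizer_co _ _))

theorem Pair.coreIn_le_left (h : Pair X Y) {r : ℕ} [hr : Fact r.Prime]
    (hPr : ¬ IsPGroup r (co X (co Y X))) : coreIn r Y ≤ X :=
  (le_normalizer_res (isPGroup_coreIn r Y) (coreIn_le r Y) (le_normalizer_coreIn r Y)
    ((co_le_right _ _).trans (co_le_left _ _)) (sn_in_Y X Y)).trans
    (h.uX _ (res_ne_bot hr.out hPr) ((res_le _ _).trans (co_le_left _ _))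
      (le_normalizer_res_of_le_normalizer r (le_normalizer_co _ _)))

/-- Conjugating `P` by an element of `Y` gives a subnormal subgroup of `X ∩ Y`. -/
theorem sn_conj {y : G} (hy : y ∈ Y) :
    (co X (co Y X)).map (MulAut.conj y).toMonoidHom ≤ X ⊓ Y ∧
    (((co X (co Y X)).map (MulAut.conj y).toMonoidHom).subgroupOf (X ⊓ Y)).IsSubnormal := by
  have hle : (co X (co Y X)).map (MulAut.conj y).toMonoidHom ≤ co Y X := by
    rintro _ ⟨p, hp, rfl⟩
    exact (mem_normalizer_iff.mp (le_normalizer_co Y X hy) p).mp (co_le_right _ _ hp)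
  have hBZ : co Y X ≤ X ⊓ Y := le_inf (co_le_right _ _) (co_le_left _ _)
  refine ⟨hle.trans hBZ, sn_of_step hle hBZ (inf_le_right.trans (le_normalizer_co Y X)) fun b hb => ?_⟩
  refine mem_normalizer_of_forall ?_
  rintro _ ⟨p, hp, rfl⟩
  have hb' : y⁻¹ * b * y ∈ X := by
    have := (mem_co.mp hb).2 y⁻¹ (inv_mem hy)
    simpa using this
  refine ⟨(y⁻¹ * b * y) * p * (y⁻¹ * b * y)⁻¹,
    (mem_normalizer_iff.mp (le_normalizer_co X _ hb') p).mp hp, ?_⟩
  simp only [MulEquiv.coe_toMonoidHom, MulAut.conj_apply]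
  group

/-- An element of `X ∩ Y` normalising all `Y`-conjugates of `U ⊴ X` lies in the core. -/
theorem Pair.mem_co_of_normalizes (h : Pair X Y) {U : Subgroup G} (hU : U ≠ ⊥) (hUX : U ≤ X)
    (hXU : X ≤ normalizer (U : Set G)) {t : G} (ht : t ∈ Y)
    (hn : ∀ y ∈ Y, t ∈ normalizer ((U.map (MulAut.conj y).toMonoidHom : Subgroup G) : Set G)) :
    t ∈ co Y X := by
  refine mem_co.mpr ⟨ht, fun y hy => h.uX U hU hUX hXU ?_⟩
  have hn' := hn y⁻¹ (inv_mem hy)
  refine mem_normalizer_of_forall fun u hu => ?_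
  obtain ⟨v, hv, hve⟩ := (mem_normalizer_iff.mp hn' (y⁻¹ * u * y)).mp ⟨u, hu, by simp⟩
  have : v = y * t * y⁻¹ * u * (y * t * y⁻¹)⁻¹ := by
    have e : y⁻¹ * v * y = t * (y⁻¹ * u * y) * t⁻¹ := by simpa using hve
    calc v = y * (y⁻¹ * v * y) * y⁻¹ := by group
      _ = _ := by rw [e]; group
  exact this ▸ hv

/-- The cores of `X ∩ Y` lie in those of `Y`. -/
theorem Pair.coreIn_inf_le (h : Pair X Y) {r : ℕ} [hr : Fact r.Prime]
    (hPr : ¬ IsPGroup r (co X (co Y X))) : coreIn r (X ⊓ Y) ≤ coreIn r Y := by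
  set P := co X (co Y X) with hP
  have hB : coreIn r (X ⊓ Y) ≤ co Y X := by
    intro t ht
    refine h.mem_co_of_normalizes (res_ne_bot hr.out hPr) ((res_le _ _).trans (co_le_left _ _))
      (le_normalizer_res_of_le_normalizer r (le_normalizer_co _ _)) (coreIn_le r _ ht).2 fun y hy => ?_
    have e : (res r P).map (MulAut.conj y).toMonoidHom = res r (P.map (MulAut.conj y).toMonoidHom) := by
      rw [res, res, MonoidHom.map_closure]
      congr 1
      ext x
      constructor
      · rintro ⟨z, ⟨hz1, hz2⟩, rfl⟩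
        exact ⟨mem_map_of_mem _ hz1,
          by rwa [orderOf_injective (MulAut.conj y).toMonoidHom (MulAut.conj y).injective]⟩
      · rintro ⟨⟨z, hz, rfl⟩, ho⟩
        exact ⟨z, ⟨hz, by rwa [orderOf_injective (MulAut.conj y).toMonoidHom (MulAut.conj y).injective] at ho⟩, rfl⟩
    rw [e]
    exact le_normalizer_res (isPGroup_coreIn r _) (coreIn_le r _) (le_normalizer_coreIn r _)
      (sn_conj hy).1 (sn_conj hy).2 ht
  refine (le_coreIn (isPGroup_coreIn r _) hB ?_).trans
    (coreIn_le_coreIn_of_normal (co_le_left Y X) (le_normalizer_co Y X))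
  exact (le_inf (co_le_right Y X) (co_le_left Y X)).trans (le_normalizer_coreIn r _)

/-- The cores at the primes not covered by `P` are trivial. -/
theorem Pair.coreIn_eq_bot (h : Pair X Y) {r : ℕ} [hr : Fact r.Prime]
    (hPr : ¬ IsPGroup r (co X (co Y X))) : coreIn r X = ⊥ := by
  by_cases hY : coreIn r Y = ⊥
  · refine Subgroup.eq_bot_of_card_eq _ ?_
    rw [h.card_coreIn r, hY, Subgroup.card_bot]
  refine h.coreIn_eq_bot_of_le (le_of_normalizer_inf (isPGroup_coreIn r Y) (isPGroup_coreIn r X)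
    ((h.coreIn_le_left hPr).trans (le_normalizer_coreIn r X)) fun t ht htn => ?_)
  have htY : t ∈ Y := h.uY _ hY (coreIn_le r Y) (le_normalizer_coreIn r Y) htn
  refine h.coreIn_inf_le hPr ?_
  refine le_coreIn (M := X ⊓ Y) (N := coreIn r X ⊓ Y) ((isPGroup_coreIn r X).to_le inf_le_left)
    (inf_le_inf_right _ (coreIn_le r X)) (fun g hg => mem_normalizer_of_forall fun x hx => ?_) ⟨ht, htY⟩
  exact ⟨(mem_normalizer_iff.mp (le_normalizer_coreIn r X hg.1) x).mp hx.1,
    Y.mul_mem (Y.mul_mem hg.2 hx.2) (Y.inv_mem hg.2)⟩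

/-- The layer is trivial when both subgroups are nontrivial. -/
theorem Pair.layerIn_eq_bot (h : Pair X Y) (hP : co X (co Y X) ≠ ⊥) (hP' : co Y (co X Y) ≠ ⊥) :
    layerIn X = ⊥ := by
  have hXY : layerIn X ≤ Y := h.symm.layerIn_le_left hP'
  set B := co Y X
  haveI : (B.subgroupOf Y).Normal :=
    (normal_subgroupOf_iff_le_normalizer (co_le_left Y X)).mpr (le_normalizer_co Y X)
  suffices hle : layerIn X ≤ layerIn Y from
    h.eq_bot_of_normalized (map_subtype_le _) (le_normalizer_layerIn X)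
      (Subgroup.eq_of_le_of_card_ge hle h.card_layerIn.ge ▸ le_normalizer_layerIn Y)
  rw [layerIn, map_le_iff_le_comap, layer_le_iff]
  intro L hL
  rw [← map_le_iff_le_comap]
  have hLmap : L.map X.subtype ≤ layerIn X := map_mono (IsComponent.le_layer hL)
  have hLX : L.map X.subtype ≤ X ⊓ Y := le_inf (map_subtype_le _) (hLmap.trans hXY)
  have key : ∀ M : Subgroup G, M ≤ X → L.map X.subtype ≤ M →
      Cfsg.IsComponent ((L.map X.subtype).subgroupOf M) := by
    intro M hMX hLM
    have hc := IsComponent.subgroupOf hL (H := M.subgroupOf X) fun x hx => hLM (mem_map_of_mem _ hx)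
    have := IsComponent.mapEquiv hc (subgroupOfEquivOfLe hMX)
    convert this using 1
    ext x
    simp only [mem_subgroupOf, Subgroup.mem_map_equiv]
    exact Subgroup.mem_map_iff_mem X.subtype_injective (x := (⟨x, hMX x.2⟩ : X))
  have hLZ := key (X ⊓ Y) inf_le_left hLX
  have hB : L.map X.subtype ≤ B := by
    intro t ht
    refine h.mem_co_of_normalizes hP (co_le_left _ _) (le_normalizer_co _ _) (hLX ht).2 fun y hy => ?_
    exact layerIn_le_normalizer (sn_conj hy).1 (sn_conj hy).2
      ⟨⟨t, hLX ht⟩, IsComponent.le_layer hLZ ht, rfl⟩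
  have hLB := key B (co_le_right Y X) hB
  have h1 : L.map X.subtype ≤ (Cfsg.layer ↥B).map B.subtype :=
    fun t ht => ⟨⟨t, hB ht⟩, IsComponent.le_layer hLB ht, rfl⟩
  refine h1.trans ?_
  intro t ht
  obtain ⟨b, hb, rfl⟩ := ht
  refine ⟨⟨b, co_le_left Y X b.2⟩, ?_, rfl⟩
  have := layer_map_subtype_le (H := B.subgroupOf Y) (Normal.isSubnormal inferInstance)
  refine this ⟨(subgroupOfEquivOfLe (co_le_left Y X)).symm b, ?_, rfl⟩
  rw [← layer_map_mulEquiv (subgroupOfEquivOfLe (co_le_left Y X)).symm]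
  exact mem_map_of_mem _ hb

/-- Thompson–Wielandt. -/
theorem Pair.exists_isPGroup (h : Pair X Y) (hP : co X (co Y X) ≠ ⊥) (hP' : co Y (co X Y) ≠ ⊥) :
    ∃ p : ℕ, p.Prime ∧ IsPGroup p (co X (co Y X)) ∧
      IsPGroup p ↥(Cfsg.generalizedFittingSubgroup ↥X) := by
  have hE := h.layerIn_eq_bot hP hP'
  by_cases hp : ∃ p : ℕ, p.Prime ∧ IsPGroup p (co X (co Y X))
  · obtain ⟨p, hp, hPp⟩ := hp
    haveI := Fact.mk hp
    refine ⟨p, hp, hPp, isPGroup_generalizedFitting hE fun s hs hsX => ?_⟩
    by_contra hne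
    haveI := Fact.mk hs
    refine hsX (h.coreIn_eq_bot fun hPs => hP ?_)
    exact disjoint_self.mp (hPs.disjoint_of_ne s p hne _ _ hPp)
  · push Not at hp
    exfalso
    have hF : Cfsg.generalizedFittingSubgroup ↥X = ⊥ := by
      have hfit : fitIn X = ⊥ := le_bot_iff.mp (le_of_parts le_rfl fun s hs _ => by
        haveI := Fact.mk hs
        exact inf_le_left.trans (h.coreIn_eq_bot (hp s hs)).le)
      rw [Cfsg.generalizedFittingSubgroup,
        (Subgroup.map_eq_bot_iff_of_injective _ X.subtype_injective).mp hE,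
        (Subgroup.map_eq_bot_iff_of_injective _ X.subtype_injective).mp hfit, bot_sup_eq]
    have hc := centralizer_generalizedFitting_le (G := X)
    rw [hF] at hc
    refine hP (le_bot_iff.mp fun g hg => ?_)
    have : (⟨g, co_le_left _ _ hg⟩ : X) ∈ (⊥ : Subgroup X) := hc (by
      rw [mem_centralizer_iff]
      intro y hy
      simp [mem_bot.mp hy])
    rw [mem_bot] at this ⊢
    exact congrArg Subtype.val this

end CfsgLib.ThompsonWielandt
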