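import Cfsg.Agent.Lib.ThompsonWielandt.Basic
import Mathlib.GroupTheory.Perm.Subgroup

/-!
The point stabilisers of a primitive group as a pair, and the index of the kernel in terms of the
length of the suborbit.
-/

set_option autoImplicit false
set_option linter.style.haveILetI false
set_option linter.unusedSectionVars false

namespace CfsgLib.ThompsonWielandt

open Subgroup MulAction CfsgLib.Solvable CfsgLib.Components CfsgLib.Components.Bender

variable {G Ω : Type*} [Group G] [Finite G] [MulAction G Ω] [FaithfulSMul G Ω] [Finite Ω]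

theorem isUniq_stabilizer [MulAction.IsPreprimitive G Ω] [Nontrivial Ω] (a : Ω) :
    IsUniq (stabilizer G a) := by
  intro U hU hUX hXU
  rcases (MulAction.IsPreprimitive.isCoatom_stabilizer_of_isPreprimitive (G := G) (a := a)).le_iff.mp hXU with h | h
  · haveI : U.Normal := Subgroup.normalizer_eq_top_iff.mp h
    refine absurd ((eq_bot_iff_forall _).mpr fun u hu => ?_) hU
    refine FaithfulSMul.eq_of_smul_eq_smul (α := Ω) fun w => ?_
    obtain ⟨g, rfl⟩ := MulAction.exists_smul_eq G a w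
    rw [one_smul, ← inv_smul_eq_iff, smul_smul, smul_smul]
    exact mem_stabilizer_iff.mp (hUX (Subgroup.Normal.conj_mem' inferInstance u hu g))
  · exact h.le

theorem pair_stabilizer (hprim : MulAction.IsPreprimitive G Ω) (a b : Ω)
    (h2 : 2 ≤ Nat.card (orbit (stabilizer G a) b)) : Pair (stabilizer G a) (stabilizer G b) := by
  have hne : a ≠ b := by
    rintro rfl
    haveI : Subsingleton (orbit (stabilizer G a) a) := ⟨fun x y => Subtype.ext (by
      obtain ⟨g, hg⟩ := x.2
      obtain ⟨g', hg'⟩ := y.2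
      rw [← hg, ← hg']
      exact (mem_stabilizer_iff.mp g.2).trans (mem_stabilizer_iff.mp g'.2).symm)⟩
    have := Finite.card_le_one_iff_subsingleton.mpr this
    omega
  haveI : Nontrivial Ω := ⟨a, b, hne⟩
  refine ⟨isUniq_stabilizer a, isUniq_stabilizer b, fun he => ?_, ?_⟩
  · haveI : Subsingleton (orbit (stabilizer G a) b) := ⟨fun x y => Subtype.ext (by
      obtain ⟨g, hg⟩ := x.2
      obtain ⟨g', hg'⟩ := y.2
      rw [← hg, ← hg']
      exact (mem_stabilizer_iff.mp (he.le g.2)).trans (mem_stabilizer_iff.mp (he.le g'.2)).symm)⟩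
    have := Finite.card_le_one_iff_subsingleton.mpr this
    omega
  · obtain ⟨g, hg⟩ := MulAction.exists_smul_eq G a b
    exact ⟨MulAction.stabilizerEquivStabilizer hg.symm⟩

theorem card_orbit_mul (a b : Ω) :
    Nat.card (orbit (stabilizer G a) b) * Nat.card ↥(stabilizer G a ⊓ stabilizer G b) =
      Nat.card ↥(stabilizer G a) := by
  have e : stabilizer (stabilizer G a) b = (stabilizer G a ⊓ stabilizer G b).subgroupOf (stabilizer G a) := by
    ext g
    simp [mem_subgroupOf]
    rfl
  rw [Nat.card_coe_set_eq, ← MulAction.index_stabilizer, e,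
    ← Nat.card_congr (subgroupOfEquivOfLe (inf_le_left : stabilizer G a ⊓ stabilizer G b ≤ _)).toEquiv,
    mul_comm, Subgroup.card_mul_index]

theorem card_orbit_eq {a b : Ω} (h : Pair (stabilizer G a) (stabilizer G b)) :
    Nat.card (orbit (stabilizer G b) a) = Nat.card (orbit (stabilizer G a) b) := by
  obtain ⟨e⟩ := h.iso
  have h1 := card_orbit_mul (G := G) a b
  have h2 := card_orbit_mul (G := G) b a
  rw [inf_comm, ← Nat.card_congr e.toEquiv, ← h1] at h2
  exact Nat.eq_of_mul_eq_mul_right Nat.card_pos h2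

/-- The order of the stabiliser divides `|P| · d! · ((d-1)!)^d`. -/
theorem card_dvd {a b : Ω} (h : Pair (stabilizer G a) (stabilizer G b)) :
    Nat.card ↥(stabilizer G a) ∣
      Nat.card ↥(co (stabilizer G a) (co (stabilizer G b) (stabilizer G a))) *
        (Nat.factorial (Nat.card (orbit (stabilizer G a) b)) *
          Nat.factorial (Nat.card (orbit (stabilizer G a) b) - 1) ^ Nat.card (orbit (stabilizer G a) b)) := by
  classical
  set d := Nat.card (orbit (stabilizer G a) b)
  set X := stabilizer G a with hX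
  set Y := stabilizer G b with hY
  haveI := Fintype.ofFinite (orbit X b)
  -- the action on the suborbit
  let π := MulAction.toPermHom X (orbit X b)
  have hπr : Nat.card π.range ∣ Nat.factorial d := by
    rw [← Nat.card_perm]
    exact Subgroup.card_subgroup_dvd_card _
  have hπk : π.ker.map X.subtype = co X Y := by
    ext g
    constructor
    · rintro ⟨g, hg, rfl⟩
      refine mem_co.mpr ⟨g.2, fun x hx => mem_stabilizer_iff.mpr ?_⟩
      have := congrArg Subtype.val (DFunLike.congr_fun (MonoidHom.mem_ker.mp hg)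
        ⟨x⁻¹ • b, ⟨⟨x⁻¹, inv_mem hx⟩, rfl⟩⟩)
      change (g : G) • x⁻¹ • b = x⁻¹ • b at this
      rw [mul_smul, mul_smul, show X.subtype g = (g : G) from rfl, this, smul_inv_smul]
    · intro hg
      refine ⟨⟨g, (mem_co.mp hg).1⟩, MonoidHom.mem_ker.mpr (Equiv.ext ?_), rfl⟩
      rintro ⟨_, ⟨⟨x, hx⟩, rfl⟩⟩
      refine Subtype.ext ?_
      change g • x • b = x • b
      have := mem_stabilizer_iff.mp ((mem_co.mp hg).2 x⁻¹ (inv_mem hx))
      rw [inv_inv, mul_smul, mul_smul, inv_smul_eq_iff] at this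
      exact this
  -- the action on the paired suborbits
  let O' := {o : Ω // o ∈ orbit Y a ∧ o ≠ a}
  have hO : Nat.card O' = d - 1 := by
    haveI := Fintype.ofFinite (orbit Y a)
    have h1 : Nat.card O' = Nat.card {o : orbit Y a // o ≠ ⟨a, mem_orbit_self a⟩} :=
      Nat.card_congr ⟨fun o => ⟨⟨o, o.2.1⟩, fun e => o.2.2 (congrArg Subtype.val e)⟩,
        fun o => ⟨o.1, o.1.2, fun e => o.2 (Subtype.ext e)⟩, fun _ => rfl, fun _ => rfl⟩
    rw [h1, Nat.card_eq_fintype_card, Fintype.card_subtype_compl, Fintype.card_subtype_eq,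
      ← Nat.card_eq_fintype_card, card_orbit_eq h]
  have hz : ∀ z ∈ X ⊓ Y, ∀ o : Ω, (z • o ∈ orbit Y a ∧ z • o ≠ a) ↔ (o ∈ orbit Y a ∧ o ≠ a) := by
    rintro z ⟨hzX, hzY⟩ o
    refine and_congr ⟨?_, ?_⟩ (not_congr ?_)
    · rintro ⟨y, hy⟩
      refine ⟨⟨z⁻¹, inv_mem hzY⟩ * y, ?_⟩
      change (z⁻¹ * (y : G)) • a = o
      change (y : G) • a = z • o at hy
      rw [mul_smul, hy, inv_smul_smul]
    · rintro ⟨y, hy⟩
      refine ⟨⟨z, hzY⟩ * y, ?_⟩
      change (z * (y : G)) • a = z • o
      change (y : G) • a = o at hy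
      rw [mul_smul, hy]
    · rw [smul_eq_iff_eq_inv_smul, mem_stabilizer_iff.mp (inv_mem hzX)]
  let ψ : ↥(X ⊓ Y) →* Equiv.Perm O' :=
    MonoidHom.mk' (fun z => (MulAction.toPerm (z : G) : Equiv.Perm Ω).subtypePerm
      (fun o => hz z z.2 o)) fun z z' => by
      refine Equiv.ext fun o => Subtype.ext ?_
      show ((z * z' : ↥(X ⊓ Y)) : G) • (o : Ω) = (z : G) • (z' : G) • (o : Ω)
      rw [Subgroup.coe_mul, mul_smul]
  choose rep hrep using fun c : orbit X b => c.2
  have hmem : ∀ (c : orbit X b) (t : G), t ∈ co X Y → (rep c : G)⁻¹ * t * (rep c : G) ∈ X ⊓ Y := by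
    intro c t ht
    refine ⟨X.mul_mem (X.mul_mem (X.inv_mem (rep c).2) (mem_co.mp ht).1) (rep c).2, ?_⟩
    simpa using (mem_co.mp ht).2 (rep c : G)⁻¹ (inv_mem (rep c).2)
  let φ : ↥(co X Y) →* (orbit X b → Equiv.Perm O') :=
    MonoidHom.mk' (fun t c => ψ ⟨_, hmem c t t.2⟩) fun t t' => funext fun c => by
      rw [Pi.mul_apply, ← map_mul]
      exact congrArg ψ (Subtype.ext (by simp [mul_assoc]))
  have hφr : Nat.card φ.range ∣ Nat.factorial (d - 1) ^ d := by
    have := Subgroup.card_subgroup_dvd_card φ.range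
    rwa [Nat.card_fun, Nat.card_perm, hO] at this
  have hφk : φ.ker.map (co X Y).subtype ≤ co X (co Y X) := by
    rintro _ ⟨t, ht, rfl⟩
    refine mem_co.mpr ⟨(mem_co.mp t.2).1, fun x hx => ?_⟩
    set c : orbit X b := ⟨x⁻¹ • b, ⟨⟨x⁻¹, inv_mem hx⟩, rfl⟩⟩ with hc
    set u := (rep c : G)⁻¹ * (t : G) * (rep c : G)
    have hu : ∀ o : Ω, o ∈ orbit Y a → o ≠ a → u • o = o := fun o ho hne =>
      congrArg Subtype.val (DFunLike.congr_fun (congrFun (MonoidHom.mem_ker.mp ht) c) (⟨o, ho, hne⟩ : O'))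
    have huB : u ∈ co Y X := by
      refine mem_co.mpr ⟨(hmem c t t.2).2, fun y hy => mem_stabilizer_iff.mpr ?_⟩
      have e : u • y⁻¹ • a = y⁻¹ • a := by
        by_cases hya : y⁻¹ • a = a
        · rw [hya]
          exact mem_stabilizer_iff.mp (hmem c t t.2).1
        · exact hu _ ⟨⟨y⁻¹, inv_mem hy⟩, rfl⟩ hya
      rw [mul_smul, mul_smul, e, smul_inv_smul]
    have hzz : x * (rep c : G) ∈ X ⊓ Y := by
      refine ⟨mul_mem hx (rep c).2, mem_stabilizer_iff.mpr ?_⟩
      have : (rep c : G) • b = x⁻¹ • b := hrep c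
      rw [mul_smul, this, smul_inv_smul]
    have := (mem_normalizer_iff.mp (le_normalizer_co Y X hzz.2) u).mp huB
    simpa [u, mul_assoc] using this
  have e1 := Subgroup.card_mul_index π.ker
  rw [Subgroup.index_ker, ← Subgroup.card_map_of_injective X.subtype_injective, hπk] at e1
  have e2 := Subgroup.card_mul_index φ.ker
  rw [Subgroup.index_ker, ← Subgroup.card_map_of_injective (co X Y).subtype_injective] at e2
  have hd' := Subgroup.card_dvd_of_le hφk
  rw [← e1, ← e2, mul_assoc]
  refine mul_dvd_mul hd' ?_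
  rw [mul_comm (Nat.factorial d)]
  exact mul_dvd_mul hφr hπr

/-- The reversed bound. -/
theorem card_dvd_symm {a b : Ω} (h : Pair (stabilizer G a) (stabilizer G b))
    (hb : co (stabilizer G b) (co (stabilizer G a) (stabilizer G b)) = ⊥) :
    Nat.card ↥(stabilizer G a) ∣ Nat.factorial (Nat.card (orbit (stabilizer G a) b)) *
      Nat.factorial (Nat.card (orbit (stabilizer G a) b) - 1) ^ Nat.card (orbit (stabilizer G a) b) := by
  have h1 := card_dvd h.symm
  rw [hb, Subgroup.card_bot, one_mul, card_orbit_eq h] at h1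
  obtain ⟨e⟩ := h.iso
  rwa [Nat.card_congr e.toEquiv]

theorem card_dvd_of_bot {a b : Ω} (h : Pair (stabilizer G a) (stabilizer G b))
    (hb : co (stabilizer G a) (co (stabilizer G b) (stabilizer G a)) = ⊥) :
    Nat.card ↥(stabilizer G a) ∣ Nat.factorial (Nat.card (orbit (stabilizer G a) b)) *
      Nat.factorial (Nat.card (orbit (stabilizer G a) b) - 1) ^ Nat.card (orbit (stabilizer G a) b) := by
  have h1 := card_dvd h
  rwa [hb, Subgroup.card_bot, one_mul] at h1

/-- With `Fit` of the induced two-point stabiliser trivial, `F(X ∩ Y)` is trivial. -/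
theorem fitIn_inf_eq_bot {X Y : Subgroup G} (h : Pair X Y) (hle : fitIn (X ⊓ Y) ≤ co X Y) :
    fitIn (X ⊓ Y) = ⊥ := by
  refine le_bot_iff.mp (le_of_parts le_rfl fun r hr _ => inf_le_left.trans ?_)
  haveI := Fact.mk hr
  set N := coreIn r (X ⊓ Y) with hN
  have hAZ : co X Y ≤ X ⊓ Y := le_inf (co_le_left X Y) (co_le_right X Y)
  have hNA : N ≤ co X Y := (coreIn_le_fitIn r _).trans hle
  have e : N = coreIn r (co X Y) := by
    refine le_antisymm (le_coreIn (isPGroup_coreIn r _) hNA (hAZ.trans (le_normalizer_coreIn r _))) ?_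
    refine le_coreIn (isPGroup_coreIn r _) ((coreIn_le r _).trans hAZ) fun g hg => ?_
    exact map_subtype_normal_of_characteristic (le_normalizer_co X Y hg.1)
  have hXN : X ≤ normalizer (N : Set G) := fun g hg => by
    rw [e]; exact map_subtype_normal_of_characteristic (le_normalizer_co X Y hg)
  by_contra hne
  have hN0 : N ≠ ⊥ := fun hb => hne hb.le
  have hY : coreIn r Y ≤ N := by
    refine le_of_normalizer_inf (isPGroup_coreIn r _) (isPGroup_coreIn r Y)
      (((coreIn_le r _).trans inf_le_right).trans (le_normalizer_coreIn r Y)) fun t ht htn => ?_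
    have htX : t ∈ X := h.uX N hN0 ((coreIn_le r _).trans inf_le_left) hXN htn
    refine le_coreIn (M := X ⊓ Y) (N := X ⊓ coreIn r Y) ((isPGroup_coreIn r Y).to_le inf_le_right)
      (inf_le_inf_left _ (coreIn_le r Y)) (fun g hg => mem_normalizer_of_forall fun x hx => ?_) ⟨htX, ht⟩
    exact ⟨X.mul_mem (X.mul_mem hg.1 hx.1) (X.inv_mem hg.1),
      (mem_normalizer_iff.mp (le_normalizer_coreIn r Y hg.2) x).mp hx.2⟩
  have hNX : N ≤ coreIn r X := le_coreIn (isPGroup_coreIn r _) ((coreIn_le r _).trans inf_le_left) hXN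
  have hb : coreIn r Y = ⊥ := h.symm.coreIn_eq_bot_of_le (hY.trans hNX)
  refine hne (le_of_le_of_eq hNX (Subgroup.eq_bot_of_card_eq _ ?_))
  rw [h.card_coreIn r, hb, Subgroup.card_bot]

end CfsgLib.ThompsonWielandt
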