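import Cfsg.Agent.Lib.ThompsonWielandt.Action
import Mathlib.GroupTheory.SpecificGroups.Alternating.Simple

/-!
Primitive groups whose stabiliser induces an alternating or symmetric group, unfaithfully, on a
suborbit.
-/

set_option autoImplicit false
set_option linter.style.haveILetI false
set_option linter.unusedSectionVars false

namespace CfsgLib.ThompsonWielandt

open Subgroup MulAction CfsgLib.Solvable CfsgLib.Components CfsgLib.Components.Bender
open scoped commutatorElement

/-! ### Permutation groups containing the alternating group -/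

section Alt

variable {α : Type*} [Fintype α] [DecidableEq α]

theorem alt_not_comm (hα : 5 ≤ Nat.card α) :
    ¬ ∀ x y : Equiv.Perm α, x ∈ alternatingGroup α → y ∈ alternatingGroup α → x * y = y * x := by
  intro h
  have hc := alternatingGroup.commutator_perm_eq hα
  haveI := alternatingGroup.isSimpleGroup (α := α) hα
  have hcm : ⁅(⊤ : Subgroup (alternatingGroup α)), (⊤ : Subgroup (alternatingGroup α))⁆ = ⊥ :=
    Subgroup.commutator_eq_bot_iff_le_centralizer.mpr fun x _ => mem_centralizer_iff.mpr fun y _ =>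
      Subtype.ext (h y x y.2 x.2)
  have := commutator_alternatingGroup_eq_top (α := α) hα
  rw [_root_.commutator_def, hcm] at this
  exact bot_ne_top this

theorem centralizer_alt_eq_bot (hα : 5 ≤ Nat.card α) :
    centralizer ((alternatingGroup α : Subgroup (Equiv.Perm α)) : Set (Equiv.Perm α)) = ⊥ := by
  by_contra hne
  have hle := Equiv.Perm.alternatingGroup_le_of_normal (α := α) hα
    (N := centralizer ((alternatingGroup α : Subgroup (Equiv.Perm α)) : Set (Equiv.Perm α)))
    ((Subgroup.nontrivial_iff_ne_bot _).mpr hne)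
  exact alt_not_comm hα fun x y hx hy => mem_centralizer_iff.mp (hle hy) x hx

theorem eq_bot_or_alt_le (hα : 5 ≤ Nat.card α) {N : Subgroup (Equiv.Perm α)}
    (hN : alternatingGroup α ≤ normalizer (N : Set (Equiv.Perm α))) :
    N = ⊥ ∨ alternatingGroup α ≤ N := by
  haveI := alternatingGroup.isSimpleGroup (α := α) hα
  haveI : (N.subgroupOf (alternatingGroup α)).Normal := ⟨fun x hx g =>
    (mem_normalizer_iff.mp (hN g.2) x).mp hx⟩
  rcases IsSimpleGroup.eq_bot_or_eq_top_of_normal _ (inferInstance : (N.subgroupOf (alternatingGroup α)).Normal) with h | h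
  · refine Or.inl (le_bot_iff.mp ?_)
    rw [← centralizer_alt_eq_bot hα]
    refine commutator_eq_bot_of_normalize (fun g _ => ?_) hN ?_
    · rw [Subgroup.normalizer_eq_top_iff.mpr inferInstance]; exact mem_top g
    · rw [inf_comm, eq_bot_iff]
      rintro x ⟨hxA, hxN⟩
      have : (⟨x, hxA⟩ : alternatingGroup α) ∈ N.subgroupOf (alternatingGroup α) := hxN
      rw [h, mem_bot] at this
      exact congrArg Subtype.val this
  · exact Or.inr (subgroupOf_eq_top.mp h)

theorem alt_le_commutator (hα : 5 ≤ Nat.card α) {M N : Subgroup (Equiv.Perm α)}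
    (hM : alternatingGroup α ≤ M) (hN : alternatingGroup α ≤ N) : alternatingGroup α ≤ ⁅M, N⁆ := by
  refine le_trans ?_ (commutator_mono hM hN)
  have h := commutator_alternatingGroup_eq_top (α := α) hα
  calc alternatingGroup α = (commutator (alternatingGroup α)).map (alternatingGroup α).subtype := by
        rw [h, ← MonoidHom.range_eq_map, range_subtype]
    _ ≤ _ := by rw [_root_.commutator_def, map_commutator, ← MonoidHom.range_eq_map, range_subtype]

theorem alt_not_isSolvable (hα : 5 ≤ Nat.card α) {M : Subgroup (Equiv.Perm α)}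
    (hM : alternatingGroup α ≤ M) : ¬ Group.IsSolvable M := by
  intro h
  haveI := h
  haveI : Group.IsSolvable (alternatingGroup α) :=
    Group.isSolvable_of_isSolvable_injective (inclusion_injective hM)
  haveI := alternatingGroup.isSimpleGroup (α := α) hα
  refine alt_not_comm hα fun x y hx hy => ?_
  exact congrArg Subtype.val ((IsSimpleGroup.comm_iff_isSolvable (G := alternatingGroup α)).mpr inferInstance
    ⟨x, hx⟩ ⟨y, hy⟩)

end Alt

/-! ### Groups without a given simple section -/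

/-- No subgroup of `G` maps onto `T`. -/
def Avoid (T : Type*) [Group T] (G : Type*) [Group G] : Prop :=
  ∀ (H : Subgroup G) (f : H →* T), ¬ Function.Surjective f

section Avoid

variable {T G Q : Type*} [Group T] [Group G] [Group Q]

theorem avoid_of_card_lt [Finite G] (h : Nat.card G < Nat.card T) : Avoid T G := fun H f hf =>
  absurd ((Nat.card_le_card_of_surjective f hf).trans (Subgroup.card_le_card_group H)) (not_le.mpr h)

theorem avoid_of_injective (f : G →* Q) (hf : Function.Injective f) (h : Avoid T Q) : Avoid T G := by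
  intro H g hg
  let e := H.equivMapOfInjective f hf
  exact h (H.map f) (g.comp e.symm.toMonoidHom) (hg.comp e.symm.surjective)

theorem avoid_of_hom [IsSimpleGroup T] (φ : G →* Q) (hk : Avoid T φ.ker) (hQ : Avoid T Q) : Avoid T G := by
  intro H g hg
  set N := φ.ker.subgroupOf H with hN
  haveI : (N.map g).Normal := Subgroup.Normal.map inferInstance g hg
  rcases IsSimpleGroup.eq_bot_or_eq_top_of_normal _ (inferInstance : (N.map g).Normal) with h | h
  · let ψ := φ.subgroupMap H
    have hψ : Function.Surjective ψ := MonoidHom.subgroupMap_surjective φ H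
    have hle : ψ.ker ≤ g.ker := fun x hx => by
      have hx' : x ∈ N := congrArg Subtype.val (MonoidHom.mem_ker.mp hx)
      exact MonoidHom.mem_ker.mpr (mem_bot.mp (h ▸ mem_map_of_mem g hx'))
    let l := ψ.liftOfRightInverse _ (Function.rightInverse_surjInv hψ) ⟨g, hle⟩
    refine hQ (H.map φ) l fun t => ?_
    obtain ⟨x, rfl⟩ := hg t
    exact ⟨ψ x, MonoidHom.liftOfRightInverse_comp_apply ψ _ _ ⟨g, hle⟩ x⟩
  · let i : ↥(H.subgroupOf φ.ker) →* H :=
      { toFun := fun x => ⟨((x : φ.ker) : G), x.2⟩, map_one' := rfl, map_mul' := fun _ _ => rfl }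
    refine hk _ (g.comp i) fun t => ?_
    obtain ⟨x, hx, rfl⟩ := (h ▸ mem_top t : t ∈ N.map g)
    exact ⟨⟨⟨(x : G), hx⟩, x.2⟩, rfl⟩

theorem avoid_pi {S : Type*} [Group S] [IsSimpleGroup T] (hS : Avoid T S) (n : ℕ) :
    Avoid T (Fin n → S) := by
  induction n with
  | zero =>
    intro H f hf
    obtain ⟨x, y, hxy⟩ := (inferInstance : Nontrivial T).exists_pair_ne
    obtain ⟨u, rfl⟩ := hf x
    obtain ⟨v, rfl⟩ := hf y
    exact hxy (congrArg f (Subsingleton.elim u v))
  | succ n ih =>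
    let φ : (Fin (n + 1) → S) →* (Fin n → S) :=
      { toFun := fun f i => f i.succ, map_one' := rfl, map_mul' := fun _ _ => rfl }
    refine avoid_of_hom φ (avoid_of_injective ((Pi.evalMonoidHom (fun _ => S) 0).comp φ.ker.subtype) ?_ hS) ih
    intro x y h
    refine Subtype.ext (funext fun i => ?_)
    refine Fin.cases h (fun j => ?_) i
    exact (congrFun (MonoidHom.mem_ker.mp x.2) j).trans (congrFun (MonoidHom.mem_ker.mp y.2) j).symm

end Avoid

/-! ### The induced groups -/

variable {G Ω : Type*} [Group G] [Finite G] [MulAction G Ω] [FaithfulSMul G Ω] [Finite Ω]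

/-- The suborbit. -/
abbrev Orb (G : Type*) [Group G] [MulAction G Ω] (a b : Ω) : Type _ :=
  ↥(orbit (stabilizer G a) b)

/-- The suborbit without its base point. -/
abbrev OrbC (G : Type*) [Group G] [MulAction G Ω] (a b : Ω) : Type _ :=
  {o : Orb G a b // o ≠ ⟨b, mem_orbit_self b⟩}

/-- The action of `G_a` on the orbit of `b`. -/
def sig (a b : Ω) : stabilizer G a →* Equiv.Perm (Orb G a b) :=
  MulAction.toPermHom (stabilizer G a) (orbit (stabilizer G a) b)

theorem sig_apply (a b : Ω) (g : stabilizer G a) (o : Orb G a b) :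
    ((sig a b g o : Orb G a b) : Ω) = (g : G) • (o : Ω) := rfl

theorem psi_prf (a b : Ω) (z : ↥(stabilizer G a ⊓ stabilizer G b)) (o : Orb G b a) :
    sig (G := G) b a ⟨(z : G), z.2.2⟩ o ≠ ⟨a, mem_orbit_self a⟩ ↔ o ≠ ⟨a, mem_orbit_self a⟩ := by
  have e : sig (G := G) b a ⟨(z : G), z.2.2⟩ ⟨a, mem_orbit_self a⟩ = ⟨a, mem_orbit_self a⟩ :=
    Subtype.ext z.2.1
  refine not_congr ⟨fun h => (sig (G := G) b a ⟨(z : G), z.2.2⟩).injective (h.trans e.symm), fun h => h ▸ e⟩

/-- The action of `G_a ∩ G_b` on the rest of the orbit of `a` under `G_b`. -/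
def psi (a b : Ω) : ↥(stabilizer G a ⊓ stabilizer G b) →* Equiv.Perm (OrbC G b a) :=
  MonoidHom.mk' (fun z => (sig (G := G) b a ⟨(z : G), z.2.2⟩).subtypePerm (fun o => psi_prf a b z o)) fun z z' => by
    refine Equiv.ext fun o => Subtype.ext (Subtype.ext ?_)
    show ((z * z' : ↥(stabilizer G a ⊓ stabilizer G b)) : G) • ((o : Orb G b a) : Ω) =
      (z : G) • (z' : G) • ((o : Orb G b a) : Ω)
    rw [Subgroup.coe_mul, mul_smul]

theorem psi_apply (a b : Ω) (z : ↥(stabilizer G a ⊓ stabilizer G b)) (o : OrbC G b a) :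
    (((psi a b z) o : Orb G b a) : Ω) = (z : G) • ((o : Orb G b a) : Ω) := rfl

theorem psi_eq_one_iff (a b : Ω) (z : ↥(stabilizer G a ⊓ stabilizer G b)) :
    psi a b z = 1 ↔ (z : G) ∈ co (stabilizer G b) (stabilizer G a) := by
  constructor
  · intro h
    refine mem_co.mpr ⟨z.2.2, fun y hy => mem_stabilizer_iff.mpr ?_⟩
    have e : (z : G) • y⁻¹ • a = y⁻¹ • a := by
      by_cases hc : (⟨y⁻¹ • a, ⟨⟨y⁻¹, inv_mem hy⟩, rfl⟩⟩ : Orb G b a) = ⟨a, mem_orbit_self a⟩
      · have hc' : y⁻¹ • a = a := congrArg Subtype.val hc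
        rw [hc']; exact z.2.1
      · exact congrArg (fun o : OrbC G b a => ((o : Orb G b a) : Ω)) (DFunLike.congr_fun h ⟨_, hc⟩)
    rw [mul_smul, mul_smul, e, smul_inv_smul]
  · intro h
    refine Equiv.ext fun o => Subtype.ext (Subtype.ext ?_)
    obtain ⟨⟨y, hy⟩, hyo⟩ := (o : Orb G b a).2
    show (z : G) • ((o : Orb G b a) : Ω) = ((o : Orb G b a) : Ω)
    rw [← hyo]
    have := mem_stabilizer_iff.mp ((mem_co.mp h).2 y⁻¹ (inv_mem hy))
    rw [inv_inv, mul_smul, mul_smul, inv_smul_eq_iff] at this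
    exact this

theorem sig_eq_one_iff (a b : Ω) (g : stabilizer G a) :
    sig a b g = 1 ↔ (g : G) ∈ co (stabilizer G a) (stabilizer G b) := by
  constructor
  · intro h
    refine mem_co.mpr ⟨g.2, fun x hx => mem_stabilizer_iff.mpr ?_⟩
    have := congrArg Subtype.val (DFunLike.congr_fun h ⟨x⁻¹ • b, ⟨⟨x⁻¹, inv_mem hx⟩, rfl⟩⟩)
    change (g : G) • x⁻¹ • b = x⁻¹ • b at this
    rw [mul_smul, mul_smul, this, smul_inv_smul]
  · intro h
    refine Equiv.ext fun o => Subtype.ext ?_
    obtain ⟨⟨x, hx⟩, hxo⟩ := o.2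
    show (g : G) • (o : Ω) = o
    rw [← hxo]
    have := mem_stabilizer_iff.mp ((mem_co.mp h).2 x⁻¹ (inv_mem hx))
    rw [inv_inv, mul_smul, mul_smul, inv_smul_eq_iff] at this
    exact this

/-- The standing hypotheses. -/
structure AltData (G : Type*) [Group G] [MulAction G Ω] (a b : Ω) (d : ℕ) : Prop where
  pair : Pair (stabilizer G a) (stabilizer G b)
  card : Nat.card (Orb G a b) = d
  six : 6 ≤ d
  idx : (sig (G := G) a b).range.index ≤ 2

variable {a b : Ω} {d : ℕ}

theorem card_orbC (h : Nat.card (Orb G a b) = d) : Nat.card (OrbC G a b) = d - 1 := by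
  classical
  haveI := Fintype.ofFinite (Orb G a b)
  rw [Nat.card_eq_fintype_card, Fintype.card_subtype_compl, Fintype.card_subtype_eq, ← Nat.card_eq_fintype_card, h]

section Data
variable [Fintype (Orb G a b)] [DecidableEq (Orb G a b)]

theorem AltData.alt_le (h : AltData G a b d) : alternatingGroup (Orb G a b) ≤ (sig (G := G) a b).range :=
  Equiv.Perm.alternatingGroup_le_of_index_le_two h.idx

/-- The two-point stabiliser induces at least the alternating group on the rest. -/
theorem AltData.alt_le_psi (h : AltData G a b d) [Fintype (OrbC G a b)] [DecidableEq (OrbC G a b)] :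
    alternatingGroup (OrbC G a b) ≤ (psi (G := G) b a).range := by
  intro q hq
  have hq' : Equiv.Perm.ofSubtype q ∈ alternatingGroup (Orb G a b) := by
    rw [Equiv.Perm.mem_alternatingGroup, Equiv.Perm.sign_ofSubtype]
    have hq0 := Equiv.Perm.mem_alternatingGroup.mp hq
    convert hq0
  obtain ⟨g, hg⟩ := h.alt_le hq'
  have hgb : (g : G) • b = b := by
    have := congrArg Subtype.val (DFunLike.congr_fun hg ⟨b, mem_orbit_self b⟩)
    rw [Equiv.Perm.ofSubtype_apply_of_not_mem q (fun hc => hc rfl)] at this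
    exact this
  refine ⟨⟨g, ⟨mem_stabilizer_iff.mpr hgb, g.2⟩⟩, Equiv.ext fun o => Subtype.ext (Subtype.ext ?_)⟩
  have := congrArg Subtype.val (DFunLike.congr_fun hg (o : Orb G a b))
  rw [Equiv.Perm.ofSubtype_apply_coe] at this
  exact this

end Data

theorem card_perm_le (h : Nat.card (OrbC G a b) = d - 1) :
    Nat.card (Equiv.Perm (OrbC G a b)) = Nat.factorial (d - 1) := by
  rw [Nat.card_perm, h]

/-- `F(G_a ∩ G_b) = 1`, so one of the kernels is trivial. -/
theorem AltData.P_or (h : AltData G a b d) :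
    co (stabilizer G a) (co (stabilizer G b) (stabilizer G a)) = ⊥ ∨
      co (stabilizer G b) (co (stabilizer G a) (stabilizer G b)) = ⊥ := by
  classical
  set X := stabilizer G a
  set Y := stabilizer G b
  haveI := Fintype.ofFinite (Orb G a b)
  haveI := Fintype.ofFinite (OrbC G a b)
  have hcard : 5 ≤ Nat.card (OrbC G a b) := by rw [card_orbC h.card]; have := h.six; omega
  have hle : fitIn (X ⊓ Y) ≤ co X Y := by
    rw [inf_comm]
    set F := Cfsg.fittingSubgroup ↥(Y ⊓ X)
    haveI := Cores.fittingSubgroup_isNilpotent (G := ↥(Y ⊓ X))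
    rcases eq_bot_or_alt_le hcard (N := F.map (psi (G := G) b a)) ((h.alt_le_psi).trans (by
        rintro _ ⟨z, rfl⟩
        refine mem_normalizer_of_forall ?_
        rintro _ ⟨f, hf, rfl⟩
        exact ⟨z * f * z⁻¹, (inferInstance : F.Normal).conj_mem f hf z, by simp⟩)) with hb | hb
    · rintro _ ⟨f, hf, rfl⟩
      exact (psi_eq_one_iff b a f).mp (mem_bot.mp (hb ▸ mem_map_of_mem _ hf))
    · refine absurd ?_ (alt_not_isSolvable hcard hb)
      haveI : Group.IsNilpotent ↥(F.map (psi (G := G) b a)) :=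
        Group.nilpotent_of_surjective _ (MonoidHom.subgroupMap_surjective _ F)
      infer_instance
  have hfit := fitIn_inf_eq_bot h.pair hle
  by_contra hc
  push Not at hc
  obtain ⟨p, hp, hPp, -⟩ := h.pair.exists_isPGroup hc.1 hc.2
  haveI := Fact.mk hp
  refine hc.1 (le_bot_iff.mp ?_)
  rw [← hfit]
  refine (le_coreIn hPp (le_inf (co_le_left _ _) ((co_le_right _ _).trans (co_le_left _ _))) ?_).trans
    (coreIn_le_fitIn p _)
  exact inf_le_left.trans (le_normalizer_co _ _)

theorem factorial_half (hd : 6 ≤ d) : 2 * Nat.factorial (d - 1) < Nat.factorial d := by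
  obtain ⟨n, rfl⟩ : ∃ n, d = n + 1 := ⟨d - 1, by omega⟩
  rw [Nat.factorial_succ, Nat.add_sub_cancel]
  exact Nat.mul_lt_mul_of_pos_right (by omega) (Nat.factorial_pos n)

/-- With trivial kernel, `G_a ∩ G_b` has no section `Alt(Δ)`. -/
theorem avoid_inf {T : Type*} [Group T] [IsSimpleGroup T] (h : Pair (stabilizer G a) (stabilizer G b))
    (hc : Nat.card (Orb G a b) = d) (hT : Nat.factorial (d - 1) < Nat.card T)
    (hP : co (stabilizer G a) (co (stabilizer G b) (stabilizer G a)) = ⊥) :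
    Avoid T ↥(stabilizer G a ⊓ stabilizer G b) := by
  classical
  set X := stabilizer G a
  set Y := stabilizer G b
  have hc' : Nat.card (Orb G b a) = d := by rw [← hc]; exact card_orbit_eq h
  have h1 : Avoid T (Equiv.Perm (OrbC G b a)) :=
    avoid_of_card_lt (by rw [card_perm_le (card_orbC hc')]; exact hT)
  have h2 : Avoid T (Equiv.Perm (OrbC G a b)) :=
    avoid_of_card_lt (by rw [card_perm_le (card_orbC hc)]; exact hT)
  have hAZ : co X Y ≤ X ⊓ Y := le_inf (co_le_left X Y) (co_le_right X Y)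
  choose rep hrep using fun c : Orb G a b => c.2
  have hmem : ∀ (c : Orb G a b) (t : G), t ∈ co X Y → (rep c : G)⁻¹ * t * (rep c : G) ∈ X ⊓ Y := by
    intro c t ht
    refine ⟨X.mul_mem (X.mul_mem (X.inv_mem (rep c).2) (mem_co.mp ht).1) (rep c).2, ?_⟩
    simpa using (mem_co.mp ht).2 (rep c : G)⁻¹ (inv_mem (rep c).2)
  let φ : ↥(co X Y) →* (Orb G a b → Equiv.Perm (OrbC G b a)) :=
    MonoidHom.mk' (fun t c => psi a b ⟨_, hmem c t t.2⟩) fun t t' => funext fun c => by
      rw [Pi.mul_apply, ← map_mul]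
      exact congrArg (psi a b) (Subtype.ext (by simp [mul_assoc]))
  have hφ : Function.Injective φ := by
    rw [injective_iff_map_eq_one]
    intro t ht
    refine Subtype.ext (mem_bot.mp (hP ▸ mem_co.mpr ⟨(mem_co.mp t.2).1, fun x hx => ?_⟩))
    let c : Orb G a b := ⟨x⁻¹ • b, ⟨⟨x⁻¹, inv_mem hx⟩, rfl⟩⟩
    have hu := (psi_eq_one_iff a b ⟨_, hmem c t t.2⟩).mp (congrFun ht c)
    have hz : x * (rep c : G) ∈ X ⊓ Y := by
      refine ⟨mul_mem hx (rep c).2, mem_stabilizer_iff.mpr ?_⟩
      have : (rep c : G) • b = x⁻¹ • b := hrep c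
      rw [mul_smul, this, smul_inv_smul]
    have := (mem_normalizer_iff.mp (le_normalizer_co Y X hz.2) _).mp hu
    simpa [mul_assoc] using this
  haveI := Fintype.ofFinite (Orb G a b)
  let e : (Orb G a b → Equiv.Perm (OrbC G b a)) ≃* (Fin (Fintype.card (Orb G a b)) → Equiv.Perm (OrbC G b a)) :=
    { Equiv.arrowCongr (Fintype.equivFin (Orb G a b)) (Equiv.refl _) with map_mul' := fun _ _ => rfl }
  have hA : Avoid T ↥(co X Y) :=
    avoid_of_injective (e.toMonoidHom.comp φ) (e.injective.comp hφ) (avoid_pi h1 _)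
  let ψ' : ↥(X ⊓ Y) →* Equiv.Perm (OrbC G a b) :=
    (psi b a).comp (Subgroup.inclusion (le_of_eq (inf_comm _ _)))
  refine avoid_of_hom ψ' (avoid_of_injective
    (⟨⟨fun z => ⟨((z : ↥(X ⊓ Y)) : G), (psi_eq_one_iff b a _).mp (MonoidHom.mem_ker.mp z.2)⟩, rfl⟩,
      fun _ _ => rfl⟩ : ψ'.ker →* ↥(co X Y)) ?_ hA) h2
  intro z z' hzz
  exact Subtype.ext (Subtype.ext (congrArg (fun w : ↥(co X Y) => (w : G)) hzz))

/-- The paired suborbit carries an alternating group as well, and the two kernels have equal order. -/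
theorem AltData.card_co_le (h : AltData G a b d) :
    Nat.card ↥(co (stabilizer G b) (stabilizer G a)) ≤ Nat.card ↥(co (stabilizer G a) (stabilizer G b)) := by
  classical
  set X := stabilizer G a
  set Y := stabilizer G b
  haveI := Fintype.ofFinite (Orb G a b)
  have h5 : 5 ≤ Nat.card (Orb G a b) := by rw [h.card]; have := h.six; omega
  haveI : Nontrivial (Orb G a b) := Finite.one_lt_card_iff_nontrivial.mp (by omega)
  haveI := alternatingGroup.isSimpleGroup (α := Orb G a b) h5
  have hT : Nat.factorial (d - 1) < Nat.card (alternatingGroup (Orb G a b)) := by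
    have h1 : 2 * Nat.card (alternatingGroup (Orb G a b)) = Nat.factorial d := by
      rw [two_mul_nat_card_alternatingGroup, Nat.card_perm, h.card]
    have := factorial_half h.six
    omega
  have hav : Avoid (alternatingGroup (Orb G a b)) ↥(X ⊓ Y) := by
    rcases h.P_or with hP | hP
    · exact avoid_inf h.pair h.card hT hP
    · refine avoid_of_injective (Subgroup.inclusion (le_of_eq (inf_comm X Y))) (inclusion_injective _) ?_
      exact avoid_inf h.pair.symm ((card_orbit_eq h.pair).trans h.card) hT hP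
  obtain ⟨e⟩ := h.pair.iso
  set B := (co Y X).subgroupOf Y
  haveI : B.Normal := (normal_subgroupOf_iff_le_normalizer (co_le_left Y X)).mpr (le_normalizer_co Y X)
  set K := B.comap e.toMonoidHom
  rcases eq_bot_or_alt_le h5 (N := K.map (sig (G := G) a b)) (h.alt_le.trans (by
      rintro _ ⟨z, rfl⟩
      refine mem_normalizer_of_forall ?_
      rintro _ ⟨f, hf, rfl⟩
      exact ⟨z * f * z⁻¹, (inferInstance : K.Normal).conj_mem f hf z, by simp⟩)) with hb | hb
  · have hle : K.map X.subtype ≤ co X Y := by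
      rintro _ ⟨k, hk, rfl⟩
      exact (sig_eq_one_iff a b k).mp (mem_bot.mp (hb ▸ mem_map_of_mem _ hk))
    refine le_trans (le_of_eq ?_) (Subgroup.card_le_of_le hle)
    rw [card_map_of_injective X.subtype_injective, ← Nat.card_congr (subgroupOfEquivOfLe (co_le_left Y X)).toEquiv]
    refine (Nat.card_congr (⟨fun k => ⟨e k, k.2⟩, fun y => ⟨e.symm (y : Y), ?_⟩, fun k => ?_, fun y => ?_⟩ : ↥K ≃ ↥B)).symm
    · show e (e.symm (y : Y)) ∈ B
      rw [e.apply_symm_apply]; exact y.2
    · exact Subtype.ext (e.symm_apply_apply _)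
    · exact Subtype.ext (e.apply_symm_apply _)
  · exfalso
    let i : ↥K →* ↥(X ⊓ Y) :=
      { toFun := fun k => ⟨((e k : Y) : G), ⟨co_le_right Y X k.2, (e k).2⟩⟩
        map_one' := by ext; simp
        map_mul' := fun k k' => by ext; simp }
    have hi : Function.Injective i := fun k k' hkk =>
      Subtype.ext (e.injective (Subtype.ext (congrArg (fun z : ↥(X ⊓ Y) => (z : G)) hkk)))
    let f := (sig (G := G) a b).comp K.subtype
    let H := (alternatingGroup (Orb G a b)).comap f
    refine avoid_of_injective i hi hav H ((f.comp H.subtype).codRestrict _ fun x => x.2) fun t => ?_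
    obtain ⟨k, hk, hkt⟩ := hb t.2
    refine ⟨⟨⟨k, hk⟩, ?_⟩, Subtype.ext hkt⟩
    show sig a b k ∈ alternatingGroup (Orb G a b)
    rw [hkt]; exact t.2

theorem AltData.symm (h : AltData G a b d) : AltData G b a d := by
  refine ⟨h.pair.symm, (card_orbit_eq h.pair).trans h.card, h.six, ?_⟩
  have key : ∀ a b : Ω, (sig (G := G) a b).range.index * Nat.card (stabilizer G a) =
      Nat.factorial (Nat.card (Orb G a b)) * Nat.card ↥(co (stabilizer G a) (stabilizer G b)) := by
    intro a b
    have hk : (sig (G := G) a b).ker.map (stabilizer G a).subtype = co (stabilizer G a) (stabilizer G b) := by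
      ext g
      exact ⟨by rintro ⟨k, hk, rfl⟩; exact (sig_eq_one_iff a b k).mp hk,
        fun hg => ⟨⟨g, co_le_left _ _ hg⟩, (sig_eq_one_iff a b _).mpr hg, rfl⟩⟩
    rw [← Subgroup.card_mul_index (sig (G := G) a b).ker, Subgroup.index_ker,
      ← Subgroup.card_map_of_injective (stabilizer G a).subtype_injective, hk, ← Nat.card_perm,
      ← Subgroup.card_mul_index (sig (G := G) a b).range]
    ring
  have h1 := key a b
  have h2 := key b a
  obtain ⟨e⟩ := h.pair.iso
  rw [← Nat.card_congr e.toEquiv, show Nat.card (Orb G b a) = Nat.card (Orb G a b) from card_orbit_eq h.pair] at h2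
  refine le_trans ?_ h.idx
  refine Nat.le_of_mul_le_mul_right ?_ (Nat.card_pos (α := stabilizer G a))
  rw [h1, h2]
  exact Nat.mul_le_mul_left _ h.card_co_le

theorem AltData.card_co (h : AltData G a b d) :
    Nat.card ↥(co (stabilizer G b) (stabilizer G a)) = Nat.card ↥(co (stabilizer G a) (stabilizer G b)) :=
  le_antisymm h.card_co_le h.symm.card_co_le

section Core

variable [Fintype (OrbC G b a)] [DecidableEq (OrbC G b a)]

/-- A subgroup of `G_a ∩ G_b` normalised by `A` has image trivial or containing `Alt`. -/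
theorem AltData.image_cases (h : AltData G a b d) {A M : Subgroup G}
    (hA : A ≤ stabilizer G a ⊓ stabilizer G b) (hM : A ≤ normalizer (M : Set G))
    (hMA : M ≤ stabilizer G a ⊓ stabilizer G b)
    (hAalt : alternatingGroup (OrbC G b a) ≤
      (A.subgroupOf (stabilizer G a ⊓ stabilizer G b)).map (psi a b)) :
    (∀ t (ht : t ∈ M), psi a b ⟨t, hMA ht⟩ = 1) ∨
      alternatingGroup (OrbC G b a) ≤ (M.subgroupOf (stabilizer G a ⊓ stabilizer G b)).map (psi a b) := by
  have hcard : 5 ≤ Nat.card (OrbC G b a) := by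
    rw [card_orbC h.symm.card]; have := h.six; omega
  refine (eq_bot_or_alt_le hcard (hAalt.trans ?_)).imp_left fun hb t ht => ?_
  · rintro _ ⟨z, hz, rfl⟩
    refine mem_normalizer_of_forall ?_
    rintro _ ⟨m, hm, rfl⟩
    exact ⟨z * m * z⁻¹, (mem_normalizer_iff.mp (hM hz) (m : G)).mp hm, by simp⟩
  · exact mem_bot.mp (hb ▸ mem_map_of_mem (psi a b) (show (⟨t, hMA ht⟩ : ↥(stabilizer G a ⊓ stabilizer G b)) ∈ M.subgroupOf _ from ht))

theorem AltData.alt_le_psi_co (h : AltData G a b d)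
    (hA0 : co (stabilizer G a) (stabilizer G b) ≠ ⊥) :
    alternatingGroup (OrbC G b a) ≤
      ((co (stabilizer G a) (stabilizer G b)).subgroupOf (stabilizer G a ⊓ stabilizer G b)).map (psi a b) := by
  classical
  haveI := Fintype.ofFinite (Orb G b a)
  set X := stabilizer G a
  set Y := stabilizer G b
  have hAZ : co X Y ≤ X ⊓ Y := le_inf (co_le_left X Y) (co_le_right X Y)
  have hZ : alternatingGroup (OrbC G b a) ≤ ((X ⊓ Y).subgroupOf (X ⊓ Y)).map (psi a b) := by
    rw [subgroupOf_self, ← MonoidHom.range_eq_map]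
    exact h.symm.alt_le_psi
  refine (h.image_cases le_rfl (inf_le_left.trans (le_normalizer_co X Y)) hAZ hZ).resolve_left fun hc => hA0 ?_
  have hle : co X Y ≤ co Y X := fun t ht => (psi_eq_one_iff a b ⟨t, hAZ ht⟩).mp (hc t ht)
  exact h.pair.eq_bot_of_normalized (co_le_left X Y) (le_normalizer_co X Y)
    (Subgroup.eq_of_le_of_card_ge hle h.card_co.le ▸ le_normalizer_co Y X)

end Core

/-- The key step: with `P = 1` the two kernels meet trivially. -/
theorem AltData.inf_eq_bot_of_P (h : AltData G a b d)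
    (hA0 : co (stabilizer G a) (stabilizer G b) ≠ ⊥)
    (hP : co (stabilizer G a) (co (stabilizer G b) (stabilizer G a)) = ⊥) :
    co (stabilizer G a) (stabilizer G b) ⊓ co (stabilizer G b) (stabilizer G a) = ⊥ := by
  classical
  set X := stabilizer G a with hXdef
  set Y := stabilizer G b with hYdef
  haveI := Fintype.ofFinite (OrbC G b a)
  haveI := Fintype.ofFinite (OrbC G a b)
  haveI := Fintype.ofFinite (Orb G a b)
  have hd := h.six
  have hcard : 5 ≤ Nat.card (OrbC G b a) := by rw [card_orbC h.symm.card]; omega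
  have hcard' : 5 ≤ Nat.card (OrbC G a b) := by rw [card_orbC h.card]; omega
  set A := co X Y with hA
  set B := co Y X with hB
  set L := A ⊓ B with hL
  have hAZ : A ≤ X ⊓ Y := le_inf (co_le_left X Y) (co_le_right X Y)
  have hBZ : B ≤ X ⊓ Y := le_inf (co_le_right Y X) (co_le_left Y X)
  have hLZ : X ⊓ Y ≤ normalizer (L : Set G) := fun z hz => mem_normalizer_of_forall fun t ht =>
    ⟨(mem_normalizer_iff.mp (le_normalizer_co X Y hz.1) t).mp ht.1,
      (mem_normalizer_iff.mp (le_normalizer_co Y X hz.2) t).mp ht.2⟩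
  have hLP : ∀ t : G, t ∈ X → (∀ x ∈ X, x * t * x⁻¹ ∈ L) → t = 1 := fun t ht hc =>
    mem_bot.mp (hP ▸ mem_co.mpr ⟨ht, fun x hx => (hc x hx).2⟩)
  by_cases hinv : ∃ x ∈ X, x ∉ Y ∧ x ∈ normalizer (L : Set G)
  · obtain ⟨x, hx, hxY, hxL⟩ := hinv
    refine le_bot_iff.mp fun t ht => mem_bot.mpr (hLP t ((hAZ ht.1).1) fun y hy => ?_)
    have hyL : y ∈ normalizer (L : Set G) := by
      by_cases hyY : y ∈ Y
      · exact hLZ ⟨hy, hyY⟩
      · have hne : ∀ g : X, (g : G) ∉ Y → (⟨(g : G) • b, ⟨g, rfl⟩⟩ : Orb G a b) ≠ ⟨b, mem_orbit_self b⟩ :=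
          fun g hg e => hg (congrArg Subtype.val e)
        haveI : MulAction.IsPretransitive (alternatingGroup (OrbC G a b)) (OrbC G a b) :=
          alternatingGroup.isPretransitive_of_three_le_card (OrbC G a b) (by omega)
        obtain ⟨q, hq⟩ := MulAction.exists_smul_eq (alternatingGroup (OrbC G a b))
          (⟨⟨x • b, ⟨⟨x, hx⟩, rfl⟩⟩, hne ⟨x, hx⟩ hxY⟩ : OrbC G a b)
          ⟨⟨y • b, ⟨⟨y, hy⟩, rfl⟩⟩, hne ⟨y, hy⟩ hyY⟩
        obtain ⟨z, hz⟩ := h.alt_le_psi q.2
        have e : (z : G) • x • b = y • b := by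
          have h1 := congrArg (fun o : OrbC G a b => ((o : Orb G a b) : Ω)) hq
          rw [Subgroup.smul_def, Equiv.Perm.smul_def, ← hz] at h1
          exact h1
        have hw : x⁻¹ * (z : G)⁻¹ * y ∈ X ⊓ Y := by
          refine ⟨X.mul_mem (X.mul_mem (X.inv_mem hx) (X.inv_mem z.2.2)) hy, mem_stabilizer_iff.mpr ?_⟩
          rw [mul_smul, mul_smul, ← e, inv_smul_smul, inv_smul_smul]
        have := mul_mem (mul_mem (hLZ ⟨z.2.2, z.2.1⟩) hxL) (hLZ hw)
        rwa [show (z : G) * x * (x⁻¹ * (z : G)⁻¹ * y) = y by group] at this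
    exact (mem_normalizer_iff.mp hyL t).mp ht
  push Not at hinv
  exfalso
  -- `U`: the elements of `A` in all the conjugates of `L` but `L` itself
  let U : Subgroup G := A ⊓ ⨅ x : {x : G // x ∈ X ∧ x ∉ Y}, L.map (MulAut.conj (x : G)).toMonoidHom
  have hUc : ∀ {u}, u ∈ U → ∀ x ∈ X, x ∉ Y → x⁻¹ * u * x ∈ L := by
    intro u hu x hx hxY
    obtain ⟨l, hl, hlu⟩ := (mem_iInf.mp hu.2) ⟨x, hx, hxY⟩
    rw [← hlu]
    simpa [mul_assoc] using hl
  have hUalt : alternatingGroup (OrbC G b a) ≤ (U.subgroupOf (X ⊓ Y)).map (psi a b) := by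
    suffices key : ∀ S : Finset G, (∀ x ∈ S, x ∈ X ∧ x ∉ Y) → ∃ M : Subgroup G, M ≤ A ∧
        A ≤ normalizer (M : Set G) ∧ (∀ x ∈ S, ∀ t ∈ M, x⁻¹ * t * x ∈ L) ∧
        alternatingGroup (OrbC G b a) ≤ (M.subgroupOf (X ⊓ Y)).map (psi a b) by
      obtain ⟨M, hMA, -, hM, hMalt⟩ :=
        key (Set.toFinite {x : G | x ∈ X ∧ x ∉ Y}).toFinset (fun x hx => by simpa using hx)
      refine hMalt.trans (Subgroup.map_mono fun z hz => ⟨hMA hz, mem_iInf.mpr fun x => ?_⟩)
      exact ⟨_, hM x (by simp [x.2.1, x.2.2]) _ hz, by simp [mul_assoc]⟩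
    intro S
    induction S using Finset.induction with
    | empty => exact fun _ => ⟨A, le_rfl, Subgroup.le_normalizer, by simp, h.alt_le_psi_co hA0⟩
    | insert x S hxS ih =>
      intro hS
      obtain ⟨hx, hxY⟩ := hS x (Finset.mem_insert_self x S)
      obtain ⟨M, hMA, hMn, hM, hMalt⟩ := ih fun y hy => hS y (Finset.mem_insert_of_mem hy)
      set N := L.map (MulAut.conj x).toMonoidHom with hN
      have hNA : N ≤ A := by
        rintro _ ⟨l, hl, rfl⟩
        exact (mem_normalizer_iff.mp (le_normalizer_co X Y hx) l).mp hl.1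
      have hNn : A ≤ normalizer (N : Set G) := fun g hg => mem_normalizer_of_forall fun t ht => by
        obtain ⟨l, hl, rfl⟩ := ht
        have hg' : x⁻¹ * g * x ∈ X ⊓ Y := hAZ (by
          have := (mem_normalizer_iff.mp (le_normalizer_co X Y (inv_mem hx)) g).mp hg
          simpa using this)
        exact ⟨(x⁻¹ * g * x) * l * (x⁻¹ * g * x)⁻¹, (mem_normalizer_iff.mp (hLZ hg') l).mp hl,
          by simp [mul_assoc]⟩
      have hNalt := (h.image_cases hAZ hNn (hNA.trans hAZ) (h.alt_le_psi_co hA0)).resolve_left fun hc => by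
        have hle : N ≤ L := fun t ht =>
          ⟨hNA ht, (psi_eq_one_iff a b ⟨t, hAZ (hNA ht)⟩).mp (hc t ht)⟩
        refine hinv x hx hxY (Subgroup.mem_normalizer_iff_map_conj_eq.mpr
          (Subgroup.eq_of_le_of_card_ge hle ?_))
        rw [Subgroup.card_map_of_injective (MulAut.conj x).injective]
      refine ⟨⁅M, N⁆, ?_, ?_, ?_, ?_⟩
      · exact (commutator_mono hMA hNA).trans (Subgroup.commutator_le_self A)
      · intro g hg
        rw [Subgroup.mem_normalizer_iff_map_conj_eq, Subgroup.map_commutator,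
          Subgroup.mem_normalizer_iff_map_conj_eq.mp (hMn hg), Subgroup.mem_normalizer_iff_map_conj_eq.mp (hNn hg)]
      · intro y hy t ht
        rcases Finset.mem_insert.mp hy with rfl | hy'
        · obtain ⟨l, hl, rfl⟩ := commutator_le_right_of_le_normalizer (hMA.trans hNn) ht
          simpa [mul_assoc] using hl
        · exact hM y hy' t (commutator_le_left_of_le_normalizer (hNA.trans hMn) ht)
      · refine (alt_le_commutator hcard hMalt hNalt).trans ?_
        rw [← Subgroup.map_commutator]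
        refine Subgroup.map_mono (Subgroup.commutator_le.mpr fun m hm n hn => ?_)
        exact Subgroup.commutator_mem_commutator (H₁ := M) (H₂ := N) hm hn
  have hUA : U ≤ A := inf_le_left
  have hUB : U ⊓ B = ⊥ := le_bot_iff.mp fun t ht => mem_bot.mpr (hLP t (hAZ (hUA ht.1)).1 fun x hx => by
    by_cases hxY : x ∈ Y
    · exact (mem_normalizer_iff.mp (hLZ ⟨hx, hxY⟩) t).mp ⟨hUA ht.1, ht.2⟩
    · simpa using hUc ht.1 x⁻¹ (inv_mem hx) fun hc => hxY (inv_mem_iff.mp hc))
  have hUne : U ≠ ⊥ := fun he => by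
    have h1 := hUalt
    rw [he, Subgroup.bot_subgroupOf, Subgroup.map_bot] at h1
    exact alt_not_comm hcard fun x y hx hy => by rw [mem_bot.mp (h1 hx), mem_bot.mp (h1 hy)]
  have hUn : X ⊓ Y ≤ normalizer (U : Set G) := fun z hz => mem_normalizer_of_forall fun u hu => by
    refine ⟨(mem_normalizer_iff.mp (le_normalizer_co X Y hz.1) u).mp hu.1, mem_iInf.mpr fun x => ?_⟩
    obtain ⟨x, hx, hxY⟩ := x
    refine ⟨_, hUc hu (z⁻¹ * x) (mul_mem (inv_mem hz.1) hx) fun hc => hxY ?_, by simp [mul_assoc]⟩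
    have := mul_mem hz.2 hc
    simpa using this
  have hfix : ∀ x ∈ X, (∀ u ∈ U, x * u * x⁻¹ ∈ U) → x ∈ Y := fun x hx hc => by
    by_contra hxY
    refine hUne (le_bot_iff.mp ?_)
    rw [← hUB]
    intro v hv
    refine ⟨hv, ?_⟩
    have hxn := mem_normalizer_of_forall hc
    have hv' := (mem_normalizer_iff.mp hxn v).mp hv
    have := hUc hv' x hx hxY
    simp [mul_assoc] at this
    exact this.2
  have hUBc : ∀ u ∈ U, u ∈ centralizer (B : Set G) :=
    commutator_eq_bot_of_normalize (A := U) (B := B)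
      ((hUA.trans hAZ).trans (inf_le_right.trans (le_normalizer_co Y X))) (hBZ.trans hUn) hUB
  -- an element of `X` centralising all the conjugates of `U` is trivial
  have hcent : ∀ t ∈ X, (∀ x ∈ X, x ∉ Y → ∀ u ∈ U, Commute t (x * u * x⁻¹)) → t ∈ Y → t ∈ A := by
    intro t ht hc htY
    refine mem_co.mpr ⟨ht, fun x hx => ?_⟩
    by_cases hxY : x ∈ Y
    · exact Y.mul_mem (Y.mul_mem hxY htY) (Y.inv_mem hxY)
    · refine hfix _ (X.mul_mem (X.mul_mem hx ht) (X.inv_mem hx)) fun u hu => ?_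
      have h1 := hc x⁻¹ (inv_mem hx) (fun hy => hxY (inv_mem_iff.mp hy)) u hu
      rw [inv_inv] at h1
      have e : x * t * x⁻¹ * u * (x * t * x⁻¹)⁻¹ = x * (t * (x⁻¹ * u * x)) * t⁻¹ * x⁻¹ := by group
      rw [e, h1.eq]
      simpa [mul_assoc] using hu
  let C : Subgroup G := Y ⊓ centralizer (B : Set G)
  have hUC : U ≤ C := fun u hu => ⟨(hAZ (hUA hu)).2, hUBc u hu⟩
  have hconjB : ∀ x ∈ X, x ∉ Y → ∀ u ∈ U, x * u * x⁻¹ ∈ L := fun x hx hxY u hu => by
    simpa using hUc hu x⁻¹ (inv_mem hx) fun hc => hxY (inv_mem_iff.mp hc)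
  have hpsiU : ∀ t (ht : t ∈ X ⊓ Y), (∀ u ∈ U, Commute t u) → psi a b ⟨t, ht⟩ = 1 := by
    intro t ht hc
    refine mem_bot.mp (centralizer_alt_eq_bot hcard ▸ mem_centralizer_iff.mpr fun q hq => ?_)
    obtain ⟨u, hu, rfl⟩ := hUalt hq
    rw [← map_mul, ← map_mul]
    exact congrArg (psi a b) (Subtype.ext (hc (u : G) hu).eq.symm)
  have hCB : C ⊓ B = ⊥ := le_bot_iff.mp fun t ht => mem_bot.mpr (by
    obtain ⟨⟨-, htc⟩, htB⟩ := ht
    have hc : ∀ x ∈ X, x ∉ Y → ∀ u ∈ U, Commute t (x * u * x⁻¹) := fun x hx hxY u hu =>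
      (mem_centralizer_iff.mp htc _ (hconjB x hx hxY u hu).2).symm
    have htA := hcent t (hBZ htB).1 hc (hBZ htB).2
    refine hLP t (hBZ htB).1 fun x hx => ?_
    by_cases hxY : x ∈ Y
    · exact (mem_normalizer_iff.mp (hLZ ⟨hx, hxY⟩) t).mp ⟨htA, htB⟩
    · have hm : x * t * x⁻¹ ∈ A := (mem_normalizer_iff.mp (le_normalizer_co X Y hx) t).mp htA
      refine ⟨hm, (psi_eq_one_iff a b ⟨_, hAZ hm⟩).mp (hpsiU _ (hAZ hm) fun u hu => ?_)⟩
      have h1 := hc x⁻¹ (inv_mem hx) (fun hy => hxY (inv_mem_iff.mp hy)) u hu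
      rw [inv_inv] at h1
      show x * t * x⁻¹ * u = u * (x * t * x⁻¹)
      calc x * t * x⁻¹ * u = x * (t * (x⁻¹ * u * x)) * x⁻¹ := by group
        _ = x * ((x⁻¹ * u * x) * t) * x⁻¹ := by rw [h1.eq]
        _ = u * (x * t * x⁻¹) := by group)
  have hCn : Y ≤ normalizer (C : Set G) := fun y hy => mem_normalizer_of_forall fun c hc => by
    refine ⟨Y.mul_mem (Y.mul_mem hy hc.1) (Y.inv_mem hy), mem_centralizer_iff.mpr fun t ht => ?_⟩
    have ht' : y⁻¹ * t * y ∈ B := by
      have := (mem_normalizer_iff.mp (le_normalizer_co Y X (inv_mem hy)) t).mp ht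
      simpa using this
    calc t * (y * c * y⁻¹) = y * ((y⁻¹ * t * y) * c) * y⁻¹ := by group
      _ = y * (c * (y⁻¹ * t * y)) * y⁻¹ := by rw [mem_centralizer_iff.mp hc.2 _ ht']
      _ = y * c * y⁻¹ * t := by group
  have hCcard : Nat.card C ≤ Nat.factorial d := by
    rw [← h.symm.card, ← Nat.card_perm]
    refine Nat.card_le_card_of_injective (fun c : C => sig b a ⟨c, c.2.1⟩) fun c c' hcc => ?_
    have h1 : sig b a (⟨c, c.2.1⟩ * (⟨c', c'.2.1⟩ : Y)⁻¹) = 1 := by
      rw [map_mul, map_inv, mul_inv_eq_one]; exact hcc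
    have h2 : (c : G) * (c' : G)⁻¹ ∈ C ⊓ B :=
      ⟨C.mul_mem c.2 (C.inv_mem c'.2), (sig_eq_one_iff b a _).mp h1⟩
    rw [hCB, mem_bot, mul_inv_eq_one] at h2
    exact Subtype.ext h2
  obtain ⟨e⟩ := h.pair.iso
  haveI : (C.subgroupOf Y).Normal := (normal_subgroupOf_iff_le_normalizer inf_le_left).mpr hCn
  set K := (C.subgroupOf Y).comap e.toMonoidHom with hK
  set K' := K.map X.subtype with hK'
  have hKn : X ≤ normalizer (K' : Set G) := fun x hx => mem_normalizer_of_forall fun t ht => by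
    obtain ⟨k, hk, rfl⟩ := ht
    exact ⟨⟨x, hx⟩ * k * (⟨x, hx⟩ : X)⁻¹, (inferInstance : K.Normal).conj_mem k hk _, rfl⟩
  have hKne : K' ≠ ⊥ := fun hb => by
    obtain ⟨u, hu, hu1⟩ : ∃ u ∈ U, u ≠ 1 := by
      by_contra hc
      push Not at hc
      exact hUne ((eq_bot_iff_forall _).mpr hc)
    have hu2 : (e.symm ⟨u, (hAZ (hUA hu)).2⟩ : X) ∈ K := by
      show e (e.symm ⟨u, _⟩) ∈ C.subgroupOf Y
      rw [e.apply_symm_apply]; exact hUC hu
    have h3 := mem_map_of_mem X.subtype hu2
    rw [← hK', hb, mem_bot] at h3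
    have h4 : e.symm ⟨u, (hAZ (hUA hu)).2⟩ = 1 := Subtype.ext h3
    rw [MulEquiv.map_eq_one_iff] at h4
    exact hu1 (congrArg Subtype.val h4)
  set M := K' ⊓ A with hM
  have hMn : X ≤ normalizer (M : Set G) := fun x hx => mem_normalizer_of_forall fun t ht =>
    ⟨(mem_normalizer_iff.mp (hKn hx) t).mp ht.1, (mem_normalizer_iff.mp (le_normalizer_co X Y hx) t).mp ht.2⟩
  have hMne : M ≠ ⊥ := fun hb => hKne (le_bot_iff.mp (hb ▸ le_inf le_rfl fun t ht => by
    have htX : t ∈ X := map_subtype_le K ht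
    have hc0 : K' ≤ centralizer (A : Set G) :=
      commutator_eq_bot_of_normalize ((map_subtype_le K).trans (le_normalizer_co X Y))
        ((hAZ.trans inf_le_left).trans hKn) hb
    refine hcent t htX (fun x hx _ u hu => (mem_centralizer_iff.mp (hc0 ht) _
      ((mem_normalizer_iff.mp (le_normalizer_co X Y hx) u).mp (hUA hu))).symm) ?_
    refine hfix t htX fun u hu => ?_
    rw [show t * u = u * t from (mem_centralizer_iff.mp (hc0 ht) u (hUA hu)).symm]
    simpa using hu))
  have hMalt := (h.image_cases hAZ ((hAZ.trans inf_le_left).trans hMn) (inf_le_right.trans hAZ)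
    (h.alt_le_psi_co hA0)).resolve_left fun hc => hMne (le_bot_iff.mp fun t ht => mem_bot.mpr
      (hLP t (hAZ ht.2).1 fun x hx =>
        ⟨((mem_normalizer_iff.mp (hMn hx) t).mp ht).2,
          (psi_eq_one_iff a b ⟨_, _⟩).mp (hc _ ((mem_normalizer_iff.mp (hMn hx) t).mp ht))⟩))
  have hVcard : Nat.card (alternatingGroup (OrbC G b a)) ≤ Nat.card ↥(M ⊓ U) := by
    have h1 : alternatingGroup (OrbC G b a) ≤ ((M ⊓ U).subgroupOf (X ⊓ Y)).map (psi a b) := by
      refine (alt_le_commutator hcard hMalt hUalt).trans ?_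
      rw [← Subgroup.map_commutator]
      refine Subgroup.map_mono (Subgroup.commutator_le.mpr fun m hm n hn => ?_)
      have h2 := Subgroup.commutator_mem_commutator (H₁ := M) (H₂ := U) hm hn
      exact ⟨commutator_le_left_of_le_normalizer ((hUA.trans (hAZ.trans inf_le_left)).trans hMn) h2,
        commutator_le_right_of_le_normalizer ((inf_le_right.trans hAZ).trans hUn) h2⟩
    refine (Subgroup.card_le_of_le h1).trans ((Nat.le_of_dvd Nat.card_pos (Subgroup.card_map_dvd _ _)).trans ?_)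
    exact (Nat.card_congr (subgroupOfEquivOfLe (inf_le_right.trans (hUA.trans hAZ))).toEquiv).le
  obtain ⟨x, hxX, hxY⟩ : ∃ x ∈ X, x ∉ Y := by
    by_contra hc
    push Not at hc
    obtain ⟨e'⟩ := h.pair.iso
    exact h.pair.ne (Subgroup.eq_of_le_of_card_ge hc (Nat.card_congr e'.toEquiv).ge)
  set V := M ⊓ U with hV
  have hcardM : Nat.card V * Nat.card V ≤ Nat.card M := by
    rw [← Nat.card_prod]
    refine Nat.card_le_card_of_injective
      (fun p : V × V => (⟨(p.1 : G) * (x * (p.2 : G) * x⁻¹),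
        M.mul_mem p.1.2.1 ((mem_normalizer_iff.mp (hMn hxX) _).mp p.2.2.1)⟩ : M)) ?_
    intro p q hpq
    have h1 : (p.1 : G) * (x * (p.2 : G) * x⁻¹) = (q.1 : G) * (x * (q.2 : G) * x⁻¹) := congrArg Subtype.val hpq
    have h2 : (q.1 : G)⁻¹ * (p.1 : G) = x * ((q.2 : G) * (p.2 : G)⁻¹) * x⁻¹ := by
      calc (q.1 : G)⁻¹ * (p.1 : G)
          = (q.1 : G)⁻¹ * ((p.1 : G) * (x * (p.2 : G) * x⁻¹)) * (x * (p.2 : G) * x⁻¹)⁻¹ := by group
        _ = _ := by rw [h1]; group
    have hu : (q.1 : G)⁻¹ * (p.1 : G) ∈ U ⊓ B :=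
      ⟨U.mul_mem (U.inv_mem q.1.2.2) p.1.2.2,
        h2 ▸ (hconjB x hxX hxY _ (U.mul_mem q.2.2.2 (U.inv_mem p.2.2.2))).2⟩
    rw [hUB, mem_bot, inv_mul_eq_one] at hu
    rw [hu] at h2
    simp at h2
    have h2 : (q.2 : G) = (p.2 : G) := by
      first
      | exact h2
      | exact mul_inv_eq_one.mp (conj_eq_one_iff.mp h2.symm)
    exact Prod.ext (Subtype.ext hu.symm) (Subtype.ext h2.symm)
  have hKle : Nat.card M ≤ Nat.factorial d := by
    refine (Subgroup.card_le_of_le inf_le_left).trans (le_trans (le_of_eq ?_) hCcard)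
    rw [hK', card_map_of_injective X.subtype_injective, ← Nat.card_congr (subgroupOfEquivOfLe (inf_le_left : C ≤ Y)).toEquiv]
    refine Nat.card_congr (⟨fun k => ⟨e k, k.2⟩, fun y => ⟨e.symm (y : Y), ?_⟩, fun k => ?_, fun y => ?_⟩ : ↥K ≃ ↥(C.subgroupOf Y))
    · show e (e.symm (y : Y)) ∈ C.subgroupOf Y
      rw [e.apply_symm_apply]; exact y.2
    · exact Subtype.ext (e.symm_apply_apply _)
    · exact Subtype.ext (e.apply_symm_apply _)
  haveI : Nontrivial (OrbC G b a) := Finite.one_lt_card_iff_nontrivial.mp (by omega)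
  have hAc : 2 * Nat.card (alternatingGroup (OrbC G b a)) = Nat.factorial (d - 1) := by
    rw [two_mul_nat_card_alternatingGroup, card_perm_le (card_orbC h.symm.card)]
  have hbig : 4 * Nat.factorial d < Nat.factorial (d - 1) * Nat.factorial (d - 1) := by
    obtain ⟨n, rfl⟩ : ∃ n, d = n + 1 := ⟨d - 1, by omega⟩
    rw [Nat.factorial_succ, Nat.add_sub_cancel, ← mul_assoc]
    refine Nat.mul_lt_mul_of_pos_right ?_ (Nat.factorial_pos n)
    have : 24 * n ≤ Nat.factorial n := by
      obtain ⟨m, rfl⟩ : ∃ m, n = m + 1 := ⟨n - 1, by omega⟩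
      rw [Nat.factorial_succ, mul_comm 24]
      refine Nat.mul_le_mul_left _ ?_
      exact le_trans (by decide : 24 ≤ Nat.factorial 4) (Nat.factorial_le (by omega))
    omega
  rw [← hAc] at hbig
  nlinarith [hVcard, hcardM, hKle]

theorem AltData.inf_eq_bot (h : AltData G a b d) (hA0 : co (stabilizer G a) (stabilizer G b) ≠ ⊥) :
    co (stabilizer G a) (stabilizer G b) ⊓ co (stabilizer G b) (stabilizer G a) = ⊥ := by
  rcases h.P_or with hP | hP
  · exact h.inf_eq_bot_of_P hA0 hP
  · rw [inf_comm]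
    refine h.symm.inf_eq_bot_of_P (fun hb => hA0 (Subgroup.eq_bot_of_card_eq _ ?_)) hP
    rw [← h.card_co, hb, Subgroup.card_bot]

end CfsgLib.ThompsonWielandt
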